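import Cfsg.Agent.HallJanko.Uniq.Witness
import Cfsg.Agent.HallJanko.Setting
import Cfsg.Agent.LargeExtra.Quotient

/-!
The Hall–Janko group on 315 points is in the setting.
-/

set_option autoImplicit false

namespace Cfsg.Agent.HallJanko.ModelJ2

open Cfsg.Agent.JankoTwo Cfsg.Agent.Compute
open scoped commutatorElement

theorem qAxis_two : (2 : ℕ) ∈ qAxes := by decide +kernel

theorem mem_C_iff {g : K315} : g * tR 0 = tR 0 * g ↔ (g : Equiv.Perm (Fin 315)) ∈ Cg := by
  rw [commute_tR0_iff, mem_Cg_iff]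
  exact ⟨fun h => ⟨g.2, h⟩, fun h => h.2⟩

theorem exists_wit {q : K315} (hq : q ∈ Qk) : ∃ a ∈ kerWit, (q : Equiv.Perm (Fin 315)) = fac3Prod a := by
  obtain ⟨h, hv⟩ := mem_Qk_iff.mp hq
  exact exists_kerWit (x := ⟨_, h⟩) hv

theorem wit_mem {b : ℕ × ℕ × ℕ} (hb : b ∈ kerWit) :
    (⟨fac3Prod b, Cg_le (fac3Prod_mem b)⟩ : K315) ∈ Qk := by
  refine mem_Qk (fac3Prod_mem b) fun k => ?_
  rw [fac3Prod_apply]
  exact Nat.eq_of_beq_eq_true (allBelow_eq_true.mp (allL_spec wit_facts.2.2.2.2 b hb) k k.2)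

theorem card_Qk : Nat.card Qk = 32 := by
  have hle : blockHom.ker.map Cg.subtype ≤ K315 := by
    rintro _ ⟨x, -, rfl⟩
    exact Cg_le x.2
  rw [Qk, Nat.card_congr (Subgroup.subgroupOfEquivOfLe hle).toEquiv,
    Subgroup.card_map_of_injective Subtype.val_injective, card_ker_blockHom]

theorem card_cent : Nat.card ↥(Subgroup.centralizer ({tR 0} : Set K315)) = 1920 := by
  rw [← card_Cg]
  exact Nat.card_congr
    { toFun := fun x => ⟨((x : K315) : Equiv.Perm (Fin 315)), mem_C_iff.mp (mem_C.1 x.2)⟩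
      invFun := fun σ => ⟨⟨σ, Cg_le σ.2⟩, mem_C.2 (mem_C_iff.mpr σ.2)⟩
      left_inv := fun x => rfl
      right_inv := fun σ => rfl }

theorem es_Qk : Cfsg.IsExtraspecial 2 Qk := by
  obtain ⟨-, -, -, hfacts⟩ := es_facts
  have hz1 := tR0_ne_one
  let w : Qk := ⟨tR 0, zQ⟩
  have hcomm : ∀ a : K315, a ∈ Qk → a * tR 0 = tR 0 * a := fun a ha =>
    mem_C_iff.mpr (mem_Qk_iff.mp ha).1
  have hzval : ((tR 0 : K315) : Equiv.Perm (Fin 315)) = zP := zP_eq.symm
  refine LargeExtra.extraspecial_of isPGroup_Qk (w := w) (fun e => hz1 (congrArg Subtype.val e))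
    (Subtype.ext (tR_sq 0)) (Subgroup.mem_center_iff.mpr fun q => Subtype.ext (hcomm q q.2)) ?_ ?_ ?_ ?_
  · intro c hc
    rcases cases_of_comm (g := (c : K315)) (fun q hq =>
      congrArg Subtype.val (Subgroup.mem_center_iff.mp hc ⟨q, hq⟩).symm) with e | e
    · exact Or.inl (Subtype.ext e)
    · exact Or.inr (Subtype.ext e)
  · intro a b
    obtain ⟨x, hx, hax⟩ := exists_wit a.2
    obtain ⟨y, hy, hby⟩ := exists_wit b.2
    rcases (hfacts x hx).2.1 y hy with e | e
    · exact Or.inl (commutatorElement_eq_one_iff_mul_comm.mpr (Subtype.ext (Subtype.ext (by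
        push_cast; rw [hax, hby, e]))))
    · right
      rw [commutatorElement_def, mul_inv_eq_iff_eq_mul, mul_inv_eq_iff_eq_mul]
      refine Subtype.ext (Subtype.ext ?_)
      push_cast
      rw [hax, hby, e]
      show zP * _ = ((tR 0 : K315) : Equiv.Perm (Fin 315)) * _ * _
      rw [hzval, mul_assoc]
  · intro a
    obtain ⟨x, hx, hax⟩ := exists_wit a.2
    rcases (hfacts x hx).1 with e | e
    · exact Or.inl (Subtype.ext (Subtype.ext (by push_cast; rw [hax, e])))
    · exact Or.inr (Subtype.ext (Subtype.ext (by push_cast; rw [hax, e]; exact hzval.symm)))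
  · by_contra hne
    push Not at hne
    have h32 := card_Qk
    have hcov : ∀ c : Qk, c = 1 ∨ c = w := fun c => by
      rcases cases_of_comm (g := (c : K315)) (fun q hq => congrArg Subtype.val (hne c ⟨q, hq⟩)) with e | e
      · exact Or.inl (Subtype.ext e)
      · exact Or.inr (Subtype.ext e)
    have : Nat.card Qk ≤ 2 := by
      classical
      haveI : Fintype Qk := Fintype.ofFinite _
      rw [Nat.card_eq_fintype_card, ← Finset.card_univ]
      refine (Finset.card_le_card (t := {1, w}) fun c _ => ?_).trans (Finset.card_le_two)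
      rcases hcov c with e | e <;> simp [e]
    omega

theorem two_classes : ∃ x y : K315, orderOf x = 2 ∧ orderOf y = 2 ∧ ¬ IsConj x y := by
  obtain ⟨w, -, hw⟩ := anyL_spec outer_exists
  simp only [outerOK, Bool.and_eq_true, Bool.not_eq_true'] at hw
  obtain ⟨⟨hsq, hne⟩, hall⟩ := hw
  have hm := fac3Prod_mem w
  refine ⟨tR 0, ⟨fac3Prod w, Cg_le hm⟩, orderOf_eq_prime (hp := ⟨Nat.prime_two⟩) (by rw [pow_two]; exact tR_sq 0)
    tR0_ne_one, orderOf_eq_prime (hp := ⟨Nat.prime_two⟩) ?_ ?_, ?_⟩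
  · rw [pow_two]
    refine Subtype.ext (agree3_eq (mul_mem hm hm) (one_mem _) (fun x => ?_) (fun _ => rfl) hsq)
    show (fac3Prod w (fac3Prod w x) : ℕ) = _
    rw [fac3Prod_apply, fac3Prod_apply]
  · intro e
    rw [agree3_of_eq (σ := fac3Prod w) (τ := 1) (fac3Prod_apply w) (fun _ => rfl)
      (congrArg Subtype.val e)] at hne
    simp at hne
  · intro e
    obtain ⟨g, hg⟩ := isConj_iff.mp e
    rw [tR_conj] at hg
    have h := allBelow_eq_true.mp hall _ ((g : Equiv.Perm (Fin 315)) 0).2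
    rw [agree3_of_eq (σ := fac3Prod w) (τ := (tR ((g : Equiv.Perm (Fin 315)) 0) : Equiv.Perm (Fin 315)))
      (fac3Prod_apply w) (fun x => tbl_apply _ ((g : Equiv.Perm (Fin 315)) 0).2 x)
      (congrArg Subtype.val hg).symm] at h
    simp at h

/-- The group on 315 points is in the setting. -/
theorem hj_K315 : HJ (tR 0) Qk where
  hz := orderOf_eq_prime (hp := ⟨Nat.prime_two⟩) (by rw [pow_two]; exact tR_sq 0) tR0_ne_one
  le q hq := mem_C_iff.mpr (mem_Qk_iff.mp hq).1
  normal c hc q hq := (Subgroup.mem_normalizer_iff.1 (Cg_normalizes (mem_C_iff.mp hc)) q).1 hq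
  es := es_Qk
  card := card_Qk
  zmem := zQ
  cQ c hc := cases_of_comm fun q hq => (hc q hq).symm
  cardC := card_cent
  nwc := by
    obtain ⟨g, hg⟩ := piJ_trans 0 2
    refine ⟨piJ.rangeRestrict g, ?_⟩
    rw [tR_conj, show ((piJ.rangeRestrict g : K315) : Equiv.Perm (Fin 315)) 0 = 2 from hg]
    exact ⟨qAxes_mem qAxis_two, fun e => absurd (tR_injective e) (by decide)⟩
  hcl := two_classes

end Cfsg.Agent.HallJanko.ModelJ2
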