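import Cfsg.Agent.HallJanko.Uniq.Main
import Cfsg.Agent.HallJanko.Uniq.Model

/-!
Uniqueness of the Hall–Janko group.
-/

set_option autoImplicit false

namespace Cfsg.Agent.HallJanko

theorem HJ.isoJ2 {G : Type*} [Group G] [Finite G] {z : G} {Q : Subgroup G} (h : HJ z Q) :
    Cfsg.Spor.IsoJ2 G := by
  obtain ⟨e₁⟩ := h.equiv_TG
  obtain ⟨e₂⟩ := ModelJ2.hj_K315.equiv_TG
  exact ⟨(e₁.trans e₂.symm).trans JankoTwo.j2Equiv.symm⟩

end Cfsg.Agent.HallJanko
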