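import Cfsg.Agent.HallJanko.ThreeBase

/-!
Conjugation actions on the extraspecial group given by the images of the four generators, and change of frame.
-/

set_option autoImplicit false

namespace Cfsg.Agent.HallJanko

namespace M

/-- The map with prescribed images of the four generators. -/
def autf (m : Fin 4 → M) (x : M) : M :=
  zp x.a * (if x.b0 = 1 then m 0 else 1) * (if x.b1 = 1 then m 1 else 1) *
    (if x.b2 = 1 then m 2 else 1) * (if x.b3 = 1 then m 3 else 1)

/-- Images under the element of order three. -/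
def mA : Fin 4 → M := ![e 1, e 2, e 0, e 3]

/-- Images under the second outer involution. -/
def mX : Fin 4 → M := ![e 1, e 0, e 2, e 4]

/-- The permutation of the classes induced by the second outer involution. -/
def τX : Equiv.Perm (Fin 5) := Equiv.swap 0 1 * Equiv.swap 3 4

/-- Signed images for the element of order three. -/
def mAs (α : Fin 4 → ZMod 2) : Fin 4 → M := fun i => zp (α i) * e (τσ i.castSucc)

/-- Signed images for the second outer involution. -/
def mXs (β : Fin 4 → ZMod 2) : Fin 4 → M := fun i => zp (β i) * e (τX i.castSucc)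

theorem autf_τ0 : ∀ x, autf ![e 1, e 0, e 3, e 2] x = φ x := by decide +kernel

theorem φ_mul : ∀ x y : M, φ (x * y) = φ x * φ y := by decide +kernel

theorem sign_A : ∀ a0 a1 a2 a3 : ZMod 2,
    (∀ x, autf (mAs ![a0, a1, a2, a3]) (autf (mAs ![a0, a1, a2, a3]) (autf (mAs ![a0, a1, a2, a3]) x)) = x) →
    (∀ x, φ (autf (mAs ![a0, a1, a2, a3]) (φ (autf (mAs ![a0, a1, a2, a3])
      (φ (autf (mAs ![a0, a1, a2, a3]) x))))) = x) →
    a0 = 0 ∧ a3 = 0 ∧ a1 = a2 := by decide +kernel

theorem mAs_zero : mAs ![0, 0, 0, 0] = mA := by decide +kernel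

theorem mX_invol : ∀ x, autf mX (autf mX x) = x := by decide +kernel

theorem adjust_X : ∀ b0 b1 b2 b3 : ZMod 2,
    (∀ x, autf (mXs ![b0, b1, b2, b3]) (autf (mXs ![b0, b1, b2, b3]) x) = x) → b2 = 0 →
    ∃ q : M, ∀ i : Fin 4, q * autf (mXs ![b0, b1, b2, b3]) (q⁻¹ * e i.castSucc * q) * q⁻¹ = mX i := by
  decide +kernel

theorem τX_facts : τX * τX = 1 ∧ τX ≠ 1 ∧ Equiv.Perm.sign τX = 1 ∧ τX 2 = 2 ∧
    (∀ i, τX i = i → i = 2) ∧ (τ0 * τX) ^ 3 = 1 ∧ (τσ * τX) * (τσ * τX) = 1 := by decide +kernel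

theorem mA_facts : autf mA (e 4) = e 4 ∧ autf mA (e 3) = e 3 ∧
    (∀ i : Fin 4, autf mA (e i.castSucc) = e (τσ i.castSucc)) ∧ autf mA (e 4) = e (τσ 4) := by decide +kernel

theorem mX_facts : autf mX (e 4) = e 3 ∧ autf mX (e 3) = e 4 ∧
    (∀ i : Fin 5, autf mX (e i) = e (τX i)) ∧ autf mX zM = zM := by decide +kernel

theorem tx_cube : ∀ x, φ (autf mX (φ (autf mX (φ (autf mX x))))) = x := by decide +kernel

theorem ax_sq : ∀ x, autf mA (autf mX (autf mA (autf mX x))) = x := by decide +kernel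

theorem ax_value : ∀ m : M, ∀ a : ZMod 2, autf mA (autf mX m) * zp a * m = 1 → a = 0 := by decide +kernel

/-- Conditions for a change of frame keeping the outer involution adapted. -/
def Reframe (m : Fin 4 → M) : Prop :=
  (∀ i, m i * m i = 1) ∧ (∀ i j, i ≠ j → m i * m j = zM * (m j * m i)) ∧
    φ (m 0) = m 1 ∧ φ (m 1) = m 0 ∧ φ (m 2) = m 3 ∧ φ (m 3) = m 2

theorem reframe_swap : Reframe ![e 1, e 0, e 2, e 3] ∧ autf ![e 1, e 0, e 2, e 3] (e 4) = zM * e 4 := by
  unfold Reframe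
  decide +kernel

theorem reframe_flip : Reframe ![zM * e 0, zM * e 1, e 2, e 3] ∧
    autf ![zM * e 0, zM * e 1, e 2, e 3] (e 4) = e 4 ∧
    ∀ i : Fin 4, autf (mAs ![0, 1, 1, 0]) ((![zM * e 0, zM * e 1, e 2, e 3] : Fin 4 → M) i) =
      autf ![zM * e 0, zM * e 1, e 2, e 3] (e (τσ i.castSucc)) := by
  unfold Reframe
  decide +kernel

end M

variable {G : Type*} [Group G] {z : G} {Q : Subgroup G}

namespace Frame

variable (F : Frame z Q) (h : HJCore z Q)
include h

/-- An action is determined by the images of the generators. -/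
theorem conj_autf [Finite G] {c : G} (hc : c * z = z * c) {m : Fin 4 → M}
    (hm : ∀ i : Fin 4, c * F.ι (M.e i.castSucc) * c⁻¹ = F.ι (m i)) (x : M) :
    c * F.ι x * c⁻¹ = F.ι (M.autf m x) := by
  let f : M →* G := (MulAut.conj c).toMonoidHom.comp F.ι
  show f x = _
  conv_lhs => rw [M.decomp x]
  simp only [map_mul, M.autf]
  refine congrArg₂ (· * ·) (congrArg₂ (· * ·) (congrArg₂ (· * ·) (congrArg₂ (· * ·) ?_ ?_) ?_) ?_) ?_
  · show c * F.ι (M.zp x.a) * c⁻¹ = _
    rw [F.ι_zp]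
    have hcz : Commute c (pw z x.a) := (pw_comm hc.symm x.a).symm
    rw [hcz.eq, mul_inv_cancel_right]
  all_goals split_ifs
  all_goals first | rw [map_one, map_one] | exact hm 0 | exact hm 1 | exact hm 2 | exact hm 3

/-- The signs of the action of an element with a given permutation. -/
theorem exists_signs [Finite G] {c : G} (hc : c * z = z * c) {σ : Equiv.Perm (Fin 5)} (hσ : F.π h c = σ) :
    ∃ a : Fin 4 → ZMod 2, ∀ x, c * F.ι x * c⁻¹ =
      F.ι (M.autf (fun i => M.zp (a i) * M.e (σ i.castSucc)) x) := by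
  have hs : ∀ i : Fin 4, ∃ a, c * F.ι (M.e i.castSucc) * c⁻¹ = F.ι (M.zp a * M.e (σ i.castSucc)) :=
    fun i => by
      obtain ⟨a, ha⟩ := F.π_spec h hc i.castSucc
      exact ⟨a, hσ ▸ ha⟩
  choose a ha using hs
  exact ⟨a, F.conj_autf h hc ha⟩

/-- Elements commuting with `z` that act in the same way differ by `z` at most. -/
theorem eq_of_action [Finite G] {c d : G} (hc : c * z = z * c) (hd : d * z = z * d)
    (hcd : ∀ i : Fin 4, c * F.ι (M.e i.castSucc) * c⁻¹ = d * F.ι (M.e i.castSucc) * d⁻¹) :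
    c = d ∨ c = d * z := by
  have hall : ∀ x, c * F.ι x * c⁻¹ = d * F.ι x * d⁻¹ := fun x => DFunLike.congr_fun
    (F.base.ext_base (f := (MulAut.conj c).toMonoidHom.comp F.ι) (g := (MulAut.conj d).toMonoidHom.comp F.ι)
      (by
        show c * F.ι M.zM * c⁻¹ = d * F.ι M.zM * d⁻¹
        rw [F.ι_zM, hc, hd, mul_inv_cancel_right, mul_inv_cancel_right]) hcd) x
  rcases h.cQ (d⁻¹ * c) (fun q hq => by
    obtain ⟨x, rfl⟩ := F.ι_surj h hq
    calc F.ι x * (d⁻¹ * c) = d⁻¹ * (d * F.ι x * d⁻¹) * c := by group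
      _ = _ := by rw [← hall x]; group) with e | e
  · exact Or.inl (inv_mul_eq_one.1 e).symm
  · exact Or.inr (inv_mul_eq_iff_eq_mul.1 e)

theorem Adapted.reframe [Finite G] {t : G} {F : Frame z Q} (A : F.Adapted h t) {m : Fin 4 → M}
    (hm : M.Reframe m) :
    ∃ F' : Frame z Q, F'.Adapted h t ∧ ∀ x, F'.ι x = F.ι (M.autf m x) := by
  obtain ⟨hsq, hanti, h0, h1, h2, h3⟩ := hm
  let F' : Frame z Q :=
    { s := fun i => F.ι (m i)
      base :=
        { sq := fun i => by rw [← map_mul, hsq, map_one]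
          zsq := h.zsq
          zne := h.zne
          zc := fun i => (F.ι_comm h _).symm
          anti := fun i j hij => by
            rw [← map_mul, hanti i j hij, map_mul, map_mul, F.ι_zM] }
      mem := fun i => F.ι_mem h _ }
  have hι : ∀ x, F'.ι x = F.ι (M.autf m x) := fun x => by
    conv_lhs => rw [M.decomp x]
    simp only [map_mul, M.autf]
    refine congrArg₂ (· * ·) (congrArg₂ (· * ·) (congrArg₂ (· * ·) (congrArg₂ (· * ·) ?_ ?_) ?_) ?_) ?_
    · rw [F.ι_zp, F'.ι_zp]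
    all_goals split_ifs
    all_goals first | rw [map_one, map_one] | exact F'.ι_e 0 | exact F'.ι_e 1 | exact F'.ι_e 2 | exact F'.ι_e 3
  have htinv := Invol.inv_eq_self A.ord
  have htt := Invol.mul_self_eq_one A.ord
  have hgen : ∀ i : Fin 4, t * F'.ι (M.e i.castSucc) * t⁻¹ =
      F'.ι ((![M.e 1, M.e 0, M.e 3, M.e 2] : Fin 4 → M) i) := by
    intro i
    rw [F'.ι_e i, htinv]
    show t * F.ι (m i) * t = _
    rw [A.conj]
    fin_cases i
    · exact (congrArg F.ι h0).trans (F'.ι_e 1).symm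
    · exact (congrArg F.ι h1).trans (F'.ι_e 0).symm
    · exact (congrArg F.ι h2).trans (F'.ι_e 3).symm
    · exact (congrArg F.ι h3).trans (F'.ι_e 2).symm
  have hconj : ∀ x, t * F'.ι x * t = F'.ι (M.φ x) := fun x => by
    have := F'.conj_autf h A.comm hgen x
    rwa [htinv, M.autf_τ0] at this
  refine ⟨F', ⟨A.toOuter, ?_, hconj⟩, hι⟩
  refine Equiv.ext fun i => F'.π_eq_of h A.comm (a := 0) ?_
  rw [htinv, hconj, M.zp_zero, one_mul]
  exact congrArg F'.ι ((by decide +kernel : ∀ i, M.φ (M.e i) = M.e (M.τ0 i)) i)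

end Frame

end Cfsg.Agent.HallJanko
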