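import Mathlib

/-!
A checker for derivations in a coset space: every fact says that a letter sends a named point to a named point, and is
either a definition of a name, a generator fixing the base point, or the last side of a closed relator path.
-/

set_option autoImplicit false

namespace Cfsg.Agent.HallJanko.Uniq

/-- The field `i` of width `w` of a packed number. -/
def fld (F w i : ℕ) : ℕ := (F >>> (w * i)) % 2 ^ w

/-- The inverse letter. -/
def invL : ℕ → ℕ
  | 6 => 7
  | 7 => 6
  | 9 => 10
  | 10 => 9
  | n => n

/-- A derivation. -/
structure Cert where
  /-- facts, 28 bits each: letter, source, target -/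
  F : ℕ
  /-- parents of the names, 16 bits each: letter, parent -/
  P : ℕ
  /-- one justification for each fact -/
  steps : List ℕ

namespace Cert

variable (D : Cert)

/-- The letter of a fact. -/
def fX (k : ℕ) : ℕ := fld D.F 28 k % 16

/-- The source of a fact. -/
def fC (k : ℕ) : ℕ := fld D.F 28 k / 16 % 4096

/-- The target of a fact. -/
def fD (k : ℕ) : ℕ := fld D.F 28 k / 65536

/-- The letter naming `d`. -/
def parX (d : ℕ) : ℕ := fld D.P 16 d % 16

/-- The parent of `d`. -/
def parC (d : ℕ) : ℕ := fld D.P 16 d / 16

/-- Follow the premises from `node` and compare with the word `w`, ending at `c`. -/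
def walk (k c : ℕ) : ℕ → ℕ → ℕ → List ℕ → Bool
  | 0, _, node, w => node == c && w.isEmpty
  | n + 1, bits, node, w =>
    let j := bits % 32768 / 2
    let rev := bits % 2 == 1
    let x := bif rev then invL (D.fX j) else D.fX j
    let src := bif rev then D.fD j else D.fC j
    let tgt := bif rev then D.fC j else D.fD j
    decide (j < k) && (node == src) &&
      (bif x == 12 then walk k c n (bits / 32768) tgt w
       else match w with
        | [] => false
        | y :: w' => (x == y) && walk k c n (bits / 32768) tgt w')

/-- One step. -/
def verify (rels : List (List ℕ)) (sub : List ℕ) (k code : ℕ) : Bool :=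
  let x := D.fX k
  let c := D.fC k
  let d := D.fD k
  bif code % 4 == 0 then
    decide (c < d) && (D.parC d == c) && (D.parX d == x)
  else bif code % 4 == 1 then
    (c == 0) && (d == 0) && sub.contains x
  else
    let r := code / 4 % 128
    let i := code / 512 % 32
    let n := code / 16384 % 256
    let w := (rels.getD r []).rotate i
    bif x == 12 then D.walk k c n (code / 4194304) d w
    else match w with
      | [] => false
      | y :: w' => (x == y) && D.walk k c n (code / 4194304) d w'

/-- All steps from the `k`-th. -/
def verifyFrom (rels : List (List ℕ)) (sub : List ℕ) : ℕ → List ℕ → Bool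
  | _, [] => true
  | k, code :: l => D.verify rels sub k code && verifyFrom rels sub (k + 1) l

/-- The whole derivation. -/
def check (rels : List (List ℕ)) (sub : List ℕ) : Bool := D.verifyFrom rels sub 0 D.steps

variable {G X : Type*} [Group G] [MulAction G X] (val : ℕ → G)

/-- The action of a letter. -/
def st (x : ℕ) (q : X) : X := (val x)⁻¹ • q

/-- The named points. -/
noncomputable def pt (base : X) (n : ℕ) : X :=
  if h : D.parC n < n then st val (D.parX n) (pt base (D.parC n)) else base
termination_by n

/-- The meaning of the `k`-th fact. -/
def Holds (base : X) (k : ℕ) : Prop :=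
  st val (D.fX k) (D.pt val base (D.fC k)) = D.pt val base (D.fD k)

theorem foldl_st (w : List ℕ) (q : X) :
    w.foldl (fun q x => st val x q) q = ((w.map val).prod)⁻¹ • q := by
  induction w generalizing q with
  | nil => simp
  | cons y w ih =>
    rw [List.foldl_cons, ih, List.map_cons, List.prod_cons, mul_inv_rev, mul_smul]
    rfl

variable {val} {base : X} (h12 : val 12 = 1) (hinv : ∀ x, val (invL x) = (val x)⁻¹)
include h12 hinv

theorem walk_sound {k c : ℕ} (hk : ∀ j, j < k → D.Holds val base j) :
    ∀ n bits node w, D.walk k c n bits node w = true →
      w.foldl (fun q x => st val x q) (D.pt val base node) = D.pt val base c := by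
  intro n
  induction n with
  | zero =>
    intro bits node w e
    simp only [walk, Bool.and_eq_true, beq_iff_eq, List.isEmpty_iff] at e
    rw [e.2, e.1]
    rfl
  | succ n ih =>
    intro bits node w e
    simp only [walk, Bool.and_eq_true, decide_eq_true_eq, beq_iff_eq] at e
    obtain ⟨⟨hj, hnode⟩, e⟩ := e
    have hH := hk _ hj
    unfold Holds at hH
    have key : st val (bif bits % 2 == 1 then invL (D.fX (bits % 32768 / 2)) else D.fX (bits % 32768 / 2))
        (D.pt val base node) = D.pt val base
          (bif bits % 2 == 1 then D.fC (bits % 32768 / 2) else D.fD (bits % 32768 / 2)) := by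
      rw [hnode]
      cases bits % 2 == 1
      · exact hH
      · simp only [cond_true]
        rw [← hH]
        simp [st, hinv]
    revert e key
    generalize (bif bits % 2 == 1 then invL (D.fX (bits % 32768 / 2)) else D.fX (bits % 32768 / 2)) = x
    generalize (bif bits % 2 == 1 then D.fC (bits % 32768 / 2) else D.fD (bits % 32768 / 2)) = tgt
    intro e key
    cases hx : x == 12
    · rw [hx, cond_false] at e
      cases w with
      | nil => simp at e
      | cons y w' =>
        simp only [Bool.and_eq_true, beq_iff_eq] at e
        rw [List.foldl_cons, ← e.1, key]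
        exact ih _ _ _ e.2
    · rw [hx, cond_true] at e
      obtain rfl := beq_iff_eq.1 hx
      rw [show D.pt val base node = D.pt val base tgt by rw [← key]; simp [st, h12]]
      exact ih _ _ _ e

theorem verify_sound {rels : List (List ℕ)} {sub : List ℕ} (hrels : ∀ w ∈ rels, (w.map val).prod = 1)
    (hsub : ∀ x ∈ sub, val x • base = base) {k code : ℕ} (hk : ∀ j, j < k → D.Holds val base j)
    (e : D.verify rels sub k code = true) : D.Holds val base k := by
  simp only [verify] at e
  unfold Holds
  have hbase : D.pt val base 0 = base := by rw [pt]; simp
  cases h0 : code % 4 == 0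
  · rw [h0, cond_false] at e
    cases h1 : code % 4 == 1
    · rw [h1, cond_false] at e
      set w := (rels.getD (code / 4 % 128) []).rotate (code / 512 % 32) with hw
      have hid : ∀ q : X, w.foldl (fun q x => st val x q) q = q := by
        intro q
        have hr : ((rels.getD (code / 4 % 128) []).map val).prod = 1 := by
          rw [List.getD_eq_getElem?_getD]
          cases hg : rels[code / 4 % 128]? with
          | none => simp
          | some r => exact hrels r (List.mem_of_getElem? hg)
        rw [foldl_st, hw, List.map_rotate, List.prod_rotate_eq_one_of_prod_eq_one hr, inv_one, one_smul]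
      cases hx : D.fX k == 12
      · rw [hx, cond_false] at e
        cases hwc : w with
        | nil => rw [hwc] at e; simp at e
        | cons y w' =>
          rw [hwc] at e hid
          simp only [Bool.and_eq_true, beq_iff_eq] at e
          have hwalk := D.walk_sound h12 hinv hk _ _ _ _ e.2
          have hi := hid (D.pt val base (D.fC k))
          rw [List.foldl_cons, ← e.1, foldl_st] at hi
          rw [foldl_st] at hwalk
          exact MulAction.injective _ (hi.trans hwalk.symm)
      · rw [hx, cond_true] at e
        rw [beq_iff_eq.1 hx, ← D.walk_sound h12 hinv hk _ _ _ _ e, hid]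
        simp [st, h12]
    · rw [h1, cond_true] at e
      simp only [Bool.and_eq_true, beq_iff_eq, List.contains_iff_mem] at e
      rw [e.1.1, e.1.2, hbase, st]
      exact inv_smul_eq_iff.2 (hsub _ e.2).symm
  · rw [h0, cond_true] at e
    simp only [Bool.and_eq_true, beq_iff_eq, decide_eq_true_eq] at e
    conv_rhs => rw [pt]
    rw [dif_pos (by omega), e.1.2, e.2]

theorem check_sound {rels : List (List ℕ)} {sub : List ℕ} (hrels : ∀ w ∈ rels, (w.map val).prod = 1)
    (hsub : ∀ x ∈ sub, val x • base = base) (e : D.check rels sub = true) :
    ∀ k, k < D.steps.length → D.Holds val base k := by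
  have key : ∀ l k, D.verifyFrom rels sub k l = true → (∀ j, j < k → D.Holds val base j) →
      ∀ j, j < k + l.length → D.Holds val base j := by
    intro l
    induction l with
    | nil => intro k _ hk j hj; exact hk j (by simpa using hj)
    | cons code l ih =>
      intro k e hk j hj
      simp only [verifyFrom, Bool.and_eq_true] at e
      refine ih (k + 1) e.2 (fun i hi => ?_) j (by simp at hj; omega)
      rcases Nat.lt_succ_iff_lt_or_eq.1 hi with h | rfl
      · exact hk i h
      · exact D.verify_sound h12 hinv hrels hsub hk e.1
  intro k hk
  exact key D.steps 0 e (fun j hj => absurd hj (Nat.not_lt_zero j)) k (by simpa using hk)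

end Cert

end Cfsg.Agent.HallJanko.Uniq
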