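import Cfsg.Agent.HallJanko.Uniq.Good
import Cfsg.Agent.HallJanko.Uniq.Collapse0
import Cfsg.Agent.HallJanko.Uniq.Collapse1
import Cfsg.Agent.HallJanko.Uniq.Collapse2
import Cfsg.Agent.HallJanko.Uniq.Collapse3

/-!
What the derivations give: a group with such generators acts on the 315 cosets by fixed permutations.
-/

set_option autoImplicit false
set_option maxRecDepth 100000

namespace Cfsg.Agent.HallJanko.Uniq

/-- The relator giving `x g x`. -/
def xgRel (c : Fin 4) (j : Fin 3) : List ℕ :=
  [8, 9, 8] ++ (wordW ++ four c ++ List.replicate j.val 6).reverse.map invL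

theorem xgRel_good : xgRel 3 1 = goodRel := by decide +kernel

theorem xgRel_bad : xgRel 0 0 = rel00 ∧ xgRel 0 1 = rel01 ∧ xgRel 0 2 = rel02 ∧ xgRel 1 0 = rel10 ∧
    xgRel 1 1 = rel11 ∧ xgRel 1 2 = rel12 ∧ xgRel 2 0 = rel20 ∧ xgRel 2 1 = rel21 ∧ xgRel 2 2 = rel22 ∧
    xgRel 3 0 = rel30 ∧ xgRel 3 2 = rel32 := by decide +kernel

/-- The table. -/
def T (x i : ℕ) : ℕ := fld tableCode 9 (x * 315 + i)

/-- The name of the `i`-th point. -/
def nd (i : ℕ) : ℕ := fld nameCode 16 i

/-- Apply a word in the table. -/
def appT (w : List ℕ) (i : ℕ) : ℕ := w.foldl (fun u x => T x u) i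

/-- The table is inverse to itself under inversion of letters. -/
def tableCheck : Bool :=
  (List.range 12).all fun x => decide (invL x < 12) && (List.range 315).all fun i =>
    decide (T x i < 315) && (T (invL x) (T x i) == i)

theorem tableCheck_ok : tableCheck = true := by decide +kernel

/-- Every edge of the table is proved. -/
def edgeCheck : Bool :=
  (List.range 12).all fun x => (List.range 315).all fun i =>
    let e := fld edgeCode 15 (x * 315 + i)
    let k := e / 2
    decide (k < 8302) && (bif e % 2 == 1
      then (invL (goodCert.fX k) == x) && (goodCert.fD k == nd i) && (goodCert.fC k == nd (T x i))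
      else (goodCert.fX k == x) && (goodCert.fC k == nd i) && (goodCert.fD k == nd (T x i)))

theorem edgeCheck_ok : edgeCheck = true := by decide +kernel

theorem goodCert_length : goodCert.steps.length = 8302 := by decide +kernel

theorem nd_zero : nd 0 = 0 := by decide +kernel

theorem parC_zero : goodCert.parC 0 = 0 := by decide +kernel

theorem subL_fix : subL.all (fun x => decide (x < 12) && (T x 0 == 0)) = true := by decide +kernel

/-- The `k`-th pair of words shows that the `k`-th point is in no block with the base point. -/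
def blockCheck : Bool :=
  (List.range 314).all fun k =>
    let wm := blockWords.getD k ([], [])
    (appT wm.1 0 == k + 1) && wm.1.all (fun x => decide (x < 12)) &&
      (wm.2.foldl (fun u x => bif x == 12 then appT wm.1 u else T x u) 0 == T 9 0) &&
      wm.2.all (fun x => (x == 12) || subL.contains x)

theorem blockCheck_ok : blockCheck = true := by decide +kernel

theorem T_spec {x i : ℕ} (hx : x < 12) (hi : i < 315) :
    T x i < 315 ∧ T (invL x) (T x i) = i := by
  have h := tableCheck_ok
  simp only [tableCheck, List.all_eq_true, List.mem_range, Bool.and_eq_true, decide_eq_true_eq,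
    beq_iff_eq] at h
  exact (h x hx).2 i hi

theorem invL_lt {x : ℕ} (hx : x < 12) : invL x < 12 := by
  have h := tableCheck_ok
  simp only [tableCheck, List.all_eq_true, List.mem_range, Bool.and_eq_true, decide_eq_true_eq,
    beq_iff_eq] at h
  exact (h x hx).1

theorem invL_invL : ∀ x, invL (invL x) = x := by
  intro x
  match x with
  | 0 | 1 | 2 | 3 | 4 | 5 | 6 | 7 | 8 | 9 | 10 => rfl
  | n + 11 => rfl

/-- The permutation of the points by a letter. -/
def sgm (x : Fin 12) : Equiv.Perm (Fin 315) where
  toFun i := ⟨T (invL x) i, (T_spec (invL_lt x.2) i.2).1⟩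
  invFun i := ⟨T x i, (T_spec x.2 i.2).1⟩
  left_inv i := Fin.ext (by
    have h := (T_spec (invL_lt x.2) i.2).2
    rwa [invL_invL] at h)
  right_inv i := Fin.ext (T_spec x.2 i.2).2

/-- The permutation group of the table. -/
def TG : Subgroup (Equiv.Perm (Fin 315)) := Subgroup.closure (Set.range sgm)

variable {G X : Type*} [Group G] [MulAction G X] {val : ℕ → G} {base : X}
variable (h12 : val 12 = 1) (hinv : ∀ x, val (invL x) = (val x)⁻¹)
variable (hbase : ∀ w ∈ baseRels, (w.map val).prod = 1) (hsub : ∀ x ∈ subL, val x • base = base)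
variable (hne : val 9 • base ≠ base)
include h12 hinv hbase hsub hne

theorem collapse {D : Cert} {r : List ℕ} (hr : (r.map val).prod = 1) {n : ℕ}
    (hc : D.check (baseRels ++ [r]) subL = true)
    (hl : D.steps.length = n + 1 ∧ D.fX n = 9 ∧ D.fC n = 0 ∧ D.fD n = 0) : False := by
  have h := D.check_sound (base := base) h12 hinv (rels := baseRels ++ [r]) (fun w hw => by
    rcases List.mem_append.1 hw with h | h
    · exact hbase w h
    · rwa [List.mem_singleton.1 h]) hsub hc n (by omega)
  obtain ⟨-, hx, hC, hD⟩ := hl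
  unfold Cert.Holds at h
  rw [hx, hC, hD, show D.pt val base 0 = base by rw [Cert.pt]; simp] at h
  exact hne (inv_smul_eq_iff.1 h).symm

/-- Only one correction is possible. -/
theorem case_eq {c : Fin 4} {j : Fin 3} (hr : ((xgRel c j).map val).prod = 1) : c = 3 ∧ j = 1 := by
  obtain ⟨e00, e01, e02, e10, e11, e12, e20, e21, e22, e30, e32⟩ := xgRel_bad
  match c, j, hr with
  | 3, 1, _ => exact ⟨rfl, rfl⟩
  | 0, 0, hr => exact (collapse h12 hinv hbase hsub hne (r := rel00) (by rw [← e00]; exact hr) bad00_check bad00_last).elim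
  | 0, 1, hr => exact (collapse h12 hinv hbase hsub hne (r := rel01) (by rw [← e01]; exact hr) bad01_check bad01_last).elim
  | 0, 2, hr => exact (collapse h12 hinv hbase hsub hne (r := rel02) (by rw [← e02]; exact hr) bad02_check bad02_last).elim
  | 1, 0, hr => exact (collapse h12 hinv hbase hsub hne (r := rel10) (by rw [← e10]; exact hr) bad10_check bad10_last).elim
  | 1, 1, hr => exact (collapse h12 hinv hbase hsub hne (r := rel11) (by rw [← e11]; exact hr) bad11_check bad11_last).elim
  | 1, 2, hr => exact (collapse h12 hinv hbase hsub hne (r := rel12) (by rw [← e12]; exact hr) bad12_check bad12_last).elim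
  | 2, 0, hr => exact (collapse h12 hinv hbase hsub hne (r := rel20) (by rw [← e20]; exact hr) bad20_check bad20_last).elim
  | 2, 1, hr => exact (collapse h12 hinv hbase hsub hne (r := rel21) (by rw [← e21]; exact hr) bad21_check bad21_last).elim
  | 2, 2, hr => exact (collapse h12 hinv hbase hsub hne (r := rel22) (by rw [← e22]; exact hr) bad22_check bad22_last).elim
  | 3, 0, hr => exact (collapse h12 hinv hbase hsub hne (r := rel30) (by rw [← e30]; exact hr) bad30_check bad30_last).elim
  | 3, 2, hr => exact (collapse h12 hinv hbase hsub hne (r := rel32) (by rw [← e32]; exact hr) bad32_check bad32_last).elim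

/-- The 315 named points are distinct and are permuted as in the table. -/
theorem exists_points (hgood : ((xgRel 3 1).map val).prod = 1) :
    ∃ p : Fin 315 → X, Function.Injective p ∧ (∀ (x : Fin 12) (i : Fin 315), val x • p i = p (sgm x i)) ∧
      ∀ i, ∃ y ∈ Subgroup.closure (Set.range fun x : Fin 12 => val x), y • base = p i := by
  classical
  have hold := goodCert.check_sound (base := base) h12 hinv (rels := baseRels ++ [goodRel]) (fun w hw => by
    rcases List.mem_append.1 hw with h | h
    · exact hbase w h
    · rw [List.mem_singleton.1 h, ← xgRel_good]; exact hgood) hsub goodCert_check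
  let p : Fin 315 → X := fun i => goodCert.pt val base (nd i)
  have hp0 : p 0 = base := by
    show goodCert.pt val base (nd 0) = base
    rw [nd_zero, Cert.pt]
    simp
  have hedge : ∀ (x i : ℕ) (hx : x < 12) (hi : i < 315),
      Cert.st val x (p ⟨i, hi⟩) = p ⟨T x i, (T_spec hx hi).1⟩ := by
    intro x i hx hi
    have h := edgeCheck_ok
    simp only [edgeCheck, List.all_eq_true, List.mem_range, Bool.and_eq_true, decide_eq_true_eq] at h
    obtain ⟨hk, hb⟩ := h x hx i hi
    have hH := hold _ (goodCert_length.symm ▸ hk)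
    unfold Cert.Holds at hH
    show Cert.st val x (goodCert.pt val base (nd i)) = goodCert.pt val base (nd (T x i))
    cases ho : fld edgeCode 15 (x * 315 + i) % 2 == 1
    · rw [ho] at hb
      simp only [cond_false, Bool.and_eq_true, beq_iff_eq] at hb
      rwa [hb.1.1, hb.1.2, hb.2] at hH
    · rw [ho] at hb
      simp only [cond_true, Bool.and_eq_true, beq_iff_eq] at hb
      rw [← hb.1.2, ← hb.2, ← hH, Cert.st, Cert.st,
        show val x = (val (goodCert.fX (fld edgeCode 15 (x * 315 + i) / 2)))⁻¹ from
          (congrArg val hb.1.1).symm.trans (hinv _)]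
      simp
  have hsgm : ∀ (x : Fin 12) (i : Fin 315), val x • p i = p (sgm x i) := by
    intro x i
    have h := hedge (invL x) i (invL_lt x.2) i.2
    rw [Cert.st, hinv, inv_inv] at h
    exact h
  -- no other point coincides with the base point
  have happ : ∀ w : List ℕ, (∀ x ∈ w, x < 12) → ∀ (u : ℕ) (hu : u < 315), ∃ hb : appT w u < 315,
      w.foldl (fun q x => Cert.st val x q) (p ⟨u, hu⟩) = p ⟨appT w u, hb⟩ := by
    intro w
    induction w with
    | nil => exact fun _ u hu => ⟨hu, rfl⟩
    | cons x w ih =>
      intro hw u hu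
      obtain ⟨hb, e⟩ := ih (fun y hy => hw y (List.mem_cons_of_mem _ hy)) (T x u)
        (T_spec (hw x List.mem_cons_self) hu).1
      refine ⟨hb, ?_⟩
      rw [List.foldl_cons, hedge x u (hw x List.mem_cons_self) hu, e]
      rfl
  have hzero : ∀ (j : ℕ) (hj : j < 315), p ⟨j, hj⟩ = base → j = 0 := by
    intro j hj hpj
    by_contra hj0
    have h := blockCheck_ok
    simp only [blockCheck, List.all_eq_true, List.mem_range, Bool.and_eq_true, decide_eq_true_eq,
      beq_iff_eq, Bool.or_eq_true, List.contains_iff_mem] at h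
    obtain ⟨⟨⟨hw, hwl⟩, hm⟩, hml⟩ := h (j - 1) (by omega)
    generalize hwm : blockWords.getD (j - 1) ([], []) = wm at hw hwl hm hml
    obtain ⟨w, m⟩ := wm
    dsimp only at hw hwl hm hml
    have hwj : appT w 0 = j := by omega
    suffices key : ∀ m : List ℕ, (∀ x ∈ m, x = 12 ∨ x ∈ subL) → ∀ (u : ℕ) (hu : u < 315),
        p ⟨u, hu⟩ = base → ∃ hb : m.foldl (fun u x => bif x == 12 then appT w u else T x u) u < 315,
          p ⟨_, hb⟩ = base by
      obtain ⟨hb, e⟩ := key m hml 0 (by norm_num) hp0
      have e' : p ⟨T 9 0, (T_spec (by norm_num) (by norm_num)).1⟩ = base := by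
        convert e using 2
        exact Fin.ext hm.symm
      rw [← hedge 9 0 (by norm_num) (by norm_num),
        show p ⟨0, by norm_num⟩ = base from hp0, Cert.st, inv_smul_eq_iff] at e'
      exact hne e'.symm
    intro m
    induction m with
    | nil => exact fun _ u hu e => ⟨hu, e⟩
    | cons x m ih =>
      intro hm' u hu e
      simp only [List.foldl_cons]
      have hml' : ∀ y ∈ m, y = 12 ∨ y ∈ subL := fun y hy => hm' y (List.mem_cons_of_mem _ hy)
      rcases hm' x List.mem_cons_self with rfl | hx
      · obtain ⟨hb, eb⟩ := happ w hwl u hu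
        obtain ⟨hb0, eb0⟩ := happ w hwl 0 (by norm_num)
        refine ih hml' _ hb ?_
        show p ⟨appT w u, hb⟩ = base
        rw [← eb, e, ← hp0, show p 0 = p ⟨0, by norm_num⟩ from rfl, eb0]
        exact (congrArg p (Fin.ext hwj)).trans (hpj.trans hp0.symm)
      · have hs := subL_fix
        simp only [List.all_eq_true, Bool.and_eq_true, decide_eq_true_eq, beq_iff_eq] at hs
        obtain ⟨hx12, -⟩ := hs x hx
        have hne12 : (x == 12) = false := beq_eq_false_iff_ne.2 (by omega)
        simp only [hne12, cond_false]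
        refine ih hml' _ (T_spec hx12 hu).1 ?_
        rw [← hedge x u hx12 hu, e, Cert.st, inv_smul_eq_iff, hsub x hx]
  have hword : ∀ k : Fin 315, k ≠ 0 → ∃ w : List ℕ, (∀ x ∈ w, x < 12) ∧ appT w 0 = k := by
    intro k hk
    have hk' : (k : ℕ) ≠ 0 := fun e => hk (Fin.ext e)
    have h := blockCheck_ok
    simp only [blockCheck, List.all_eq_true, List.mem_range, Bool.and_eq_true, decide_eq_true_eq,
      beq_iff_eq] at h
    obtain ⟨⟨⟨hw, hwl⟩, -⟩, -⟩ := h ((k : ℕ) - 1) (by omega)
    exact ⟨_, hwl, by omega⟩
  have hinj : Function.Injective p := by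
    intro i k e
    by_contra hik
    wlog hk : k ≠ 0 generalizing i k
    · exact this e.symm (Ne.symm hik) (fun hi => hik (hi.trans (not_not.1 hk).symm))
    obtain ⟨w, hwl, hw⟩ := hword k hk
    obtain ⟨hb, eb⟩ := happ w hwl 0 (by norm_num)
    let y : G := (w.map val).prod
    have hy : y • p k = base := by
      have : p k = p ⟨appT w 0, hb⟩ := congrArg p (Fin.ext hw.symm)
      rw [this, ← eb, Cert.foldl_st, smul_inv_smul]
      exact hp0
    let σ : Equiv.Perm (Fin 315) := (w.map fun x => if hx : x < 12 then sgm ⟨x, hx⟩ else 1).prod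
    have hσ : ∀ i, y • p i = p (σ i) := by
      clear hb eb hy hw e hik
      induction w with
      | nil => intro i; simp [y, σ]
      | cons x w ih =>
        intro i
        simp only [y, σ, List.map_cons, List.prod_cons, mul_smul, Equiv.Perm.mul_apply]
        rw [ih (fun z hz => hwl z (List.mem_cons_of_mem _ hz)), dif_pos (hwl x List.mem_cons_self)]
        exact hsgm ⟨x, _⟩ _
    have h1 := hzero (σ i) (σ i).2 (by rw [← hy, ← e, hσ])
    have h2 := hzero (σ k) (σ k).2 (by rw [← hy, hσ])
    exact hik (σ.injective (Fin.ext (h1.trans h2.symm)))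
  refine ⟨p, hinj, hsgm, fun i => ?_⟩
  by_cases hi : i = 0
  · exact ⟨1, one_mem _, by rw [one_smul, hi, hp0]⟩
  · obtain ⟨w, hwl, hw⟩ := hword i hi
    obtain ⟨hb, eb⟩ := happ w hwl 0 (by norm_num)
    refine ⟨((w.map val).prod)⁻¹, inv_mem (Subgroup.list_prod_mem _ fun y hy => ?_), ?_⟩
    · obtain ⟨x, hx, rfl⟩ := List.mem_map.1 hy
      exact Subgroup.subset_closure ⟨⟨x, hwl x hx⟩, rfl⟩
    · rw [← Cert.foldl_st, ← hp0]
      exact eb.trans (congrArg p (Fin.ext hw))

/-- A faithful transitive action on 315 points with such generators is that of the table group. -/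
theorem equiv_TG (hgood : ((xgRel 3 1).map val).prod = 1)
    (hstab : ∀ y : G, y • base = base → y ∈ Subgroup.closure (Set.range fun x : Fin 12 => val x))
    (hcard : Nat.card X = 315) (hker : ∀ y : G, (∀ q : X, y • q = q) → y = 1) :
    Nonempty (G ≃* ↥TG) := by
  classical
  obtain ⟨p, hinj, hsgm, hreach⟩ := exists_points h12 hinv hbase hsub hne hgood
  haveI : Finite X := Nat.finite_of_card_ne_zero (by rw [hcard]; norm_num)
  have hbij : Function.Bijective p :=
    (Nat.bijective_iff_injective_and_card p).2 ⟨hinj, by rw [hcard, Nat.card_fin]⟩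
  have hsurj := hbij.2
  have hgen : ∀ y : G, y ∈ Subgroup.closure (Set.range fun x : Fin 12 => val x) := by
    intro y
    obtain ⟨i, hi⟩ := hsurj (y • base)
    obtain ⟨u, hu, hub⟩ := hreach i
    have := hstab (u⁻¹ * y) (by rw [mul_smul, ← hi, ← hub, inv_smul_smul])
    simpa using mul_mem hu this
  let e := Equiv.ofBijective p ⟨hinj, hsurj⟩
  let f : G →* Equiv.Perm (Fin 315) := e.symm.permCongrHom.toMonoidHom.comp (MulAction.toPermHom G X)
  have hf : ∀ y i, p (f y i) = y • p i := fun y i => e.apply_symm_apply _
  have hfinj : Function.Injective f := (injective_iff_map_eq_one f).2 fun y hy => hker y fun q => by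
    obtain ⟨i, rfl⟩ := hsurj q
    rw [← hf, hy, Equiv.Perm.one_apply]
  have hfsgm : ∀ x : Fin 12, f (val x) = sgm x := fun x => Equiv.ext fun i => hinj (by rw [hf, hsgm])
  have hrange : f.range = TG := by
    have hG : Subgroup.closure (Set.range fun x : Fin 12 => val x) = ⊤ :=
      (Subgroup.eq_top_iff' _).2 hgen
    rw [MonoidHom.range_eq_map, ← hG, MonoidHom.map_closure, TG, ← Set.range_comp]
    exact congrArg Subgroup.closure (congrArg Set.range (funext hfsgm))
  exact ⟨(MonoidHom.ofInjective hfinj).trans (MulEquiv.subgroupCongr hrange)⟩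

end Cfsg.Agent.HallJanko.Uniq
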