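import Cfsg.Agent.HallJanko.Uniq.Six
import Cfsg.Agent.HallJanko.Uniq.Table

/-!
Any group in the setting is the permutation group of the table.
-/

set_option autoImplicit false

namespace Cfsg.Agent.HallJanko

namespace M

/-- Words in three even permutations covering all even permutations. -/
def evenWords : List (List (Fin 3)) :=
  [[], [0], [1], [2], [0, 1], [0, 2], [1, 0], [1, 1], [1, 2], [2, 0], [2, 1], [0, 1, 0],
   [0, 1, 1], [0, 1, 2], [0, 2, 0], [0, 2, 1], [1, 0, 1], [1, 0, 2], [1, 1, 0], [1, 2, 0],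
   [2, 0, 1], [2, 1, 0], [0, 1, 0, 2], [0, 1, 2, 0], [0, 2, 0, 1], [0, 2, 1, 0],
   [1, 0, 1, 1], [1, 0, 1, 2], [1, 0, 2, 0], [1, 0, 2, 1], [1, 1, 0, 1], [1, 1, 0, 2],
   [1, 2, 0, 1], [2, 0, 1, 0], [2, 0, 1, 1], [2, 0, 1, 2], [2, 1, 0, 1], [2, 1, 0, 2],
   [0, 1, 0, 2, 0], [0, 1, 0, 2, 1], [0, 1, 2, 0, 1], [0, 2, 0, 1, 0], [0, 2, 1, 0, 1],
   [0, 2, 1, 0, 2], [1, 0, 2, 0, 1], [1, 0, 2, 1, 0], [1, 2, 0, 1, 0], [1, 2, 0, 1, 2],
   [2, 1, 0, 1, 2], [2, 1, 0, 2, 1], [0, 1, 0, 2, 0, 1], [0, 1, 0, 2, 1, 0],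
   [0, 1, 2, 0, 1, 0], [0, 1, 2, 0, 1, 2], [0, 2, 1, 0, 1, 2], [0, 2, 1, 0, 2, 1],
   [1, 0, 2, 1, 0, 1], [2, 1, 0, 2, 1, 0], [0, 1, 0, 2, 1, 0, 1], [0, 2, 1, 0, 2, 1, 0]]

theorem even_words : ∀ σ : Equiv.Perm (Fin 5), Equiv.Perm.sign σ = 1 →
    ∃ w ∈ evenWords, (w.map ![τ0, τσ, τX]).prod = σ := by decide +kernel

end M

variable {G : Type*} [Group G] [Finite G] {z : G} {Q : Subgroup G}

/-- The value of a letter. -/
def genVal (F : Frame z Q) (t a x g k : G) (n : ℕ) : G :=
  [F.s 0, F.s 1, F.s 2, F.s 3, z, t, a, a⁻¹, x, g, g⁻¹, k].getD n 1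

/-- The generators with all relations. -/
theorem HJ.equiv_TG (h : HJ z Q) : Nonempty (G ≃* ↥Uniq.TG) := by
  classical
  obtain ⟨F, t, s, g₀, a, K, S⟩ := h.exists_setup
  obtain ⟨x, hxx, hxz, hxact, htx, hax⟩ := S.exists_second
  obtain ⟨g, k, hgK, hg3, hgz, hgs, hkK, hkk, hkg, hkz, hks, hkb⟩ := S.exists_gk
  set val := genVal F t a x g k with hval
  have v0 : val 0 = F.s 0 := rfl
  have v1 : val 1 = F.s 1 := rfl
  have v2 : val 2 = F.s 2 := rfl
  have v3 : val 3 = F.s 3 := rfl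
  have v4 : val 4 = z := rfl
  have v5 : val 5 = t := rfl
  have v6 : val 6 = a := rfl
  have v7 : val 7 = a⁻¹ := rfl
  have v8 : val 8 = x := rfl
  have v9 : val 9 = g := rfl
  have v10 : val 10 = g⁻¹ := rfl
  have v11 : val 11 = k := rfl
  have v12 : val 12 = 1 := rfl
  have hs : F.s 0 * F.s 1 * F.s 2 * F.s 3 = s := by
    rw [← S.hs]; exact F.base.hom_e_four.symm
  have htt := Invol.mul_self_eq_one S.A.ord
  have hbb : F.s 3 * F.s 3 = 1 := F.base.sq 3
  have htinv := Invol.inv_eq_self S.A.ord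
  have hxinv : x⁻¹ = x := inv_eq_of_mul_eq_one_right hxx
  have hkinv : k⁻¹ = k := inv_eq_of_mul_eq_one_right hkk
  have hinv : ∀ n, val (Uniq.invL n) = (val n)⁻¹ := by
    intro n
    match n with
    | 0 => exact (inv_eq_of_mul_eq_one_right (F.base.sq 0)).symm
    | 1 => exact (inv_eq_of_mul_eq_one_right (F.base.sq 1)).symm
    | 2 => exact (inv_eq_of_mul_eq_one_right (F.base.sq 2)).symm
    | 3 => exact (inv_eq_of_mul_eq_one_right (F.base.sq 3)).symm
    | 4 => exact h.zinv.symm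
    | 5 => exact htinv.symm
    | 6 => rfl
    | 7 => exact (inv_inv a).symm
    | 8 => exact hxinv.symm
    | 9 => rfl
    | 10 => exact (inv_inv g).symm
    | 11 => exact hkinv.symm
    | n + 12 => exact inv_one.symm
  have hit : ∀ i, t * F.s i * t = F.ι (M.φ (M.e i.castSucc)) := fun i => by rw [← S.A.conj, F.ι_e]
  have hia : ∀ i, a * F.s i * a⁻¹ = F.ι (M.autf M.mA (M.e i.castSucc)) := fun i => by rw [← S.act, F.ι_e]
  have hix : ∀ i, x * F.s i * x = F.ι (M.autf M.mX (M.e i.castSucc)) := fun i => by rw [← hxact, F.ι_e]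
  have hφ : M.φ (M.e 0) = M.e 1 ∧ M.φ (M.e 1) = M.e 0 ∧ M.φ (M.e 2) = M.e 3 ∧ M.φ (M.e 3) = M.e 2 := by
    decide +kernel
  have hA : M.autf M.mA (M.e 0) = M.e 1 ∧ M.autf M.mA (M.e 1) = M.e 2 ∧ M.autf M.mA (M.e 2) = M.e 0 ∧
      M.autf M.mA (M.e 3) = M.e 3 := by decide +kernel
  have hX : M.autf M.mX (M.e 0) = M.e 1 ∧ M.autf M.mX (M.e 1) = M.e 0 ∧ M.autf M.mX (M.e 2) = M.e 2 := by
    decide +kernel
  have t0 : t * F.s 0 * t = F.s 1 := (hit 0).trans ((congrArg F.ι hφ.1).trans (F.ι_e 1))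
  have t1 : t * F.s 1 * t = F.s 0 := (hit 1).trans ((congrArg F.ι hφ.2.1).trans (F.ι_e 0))
  have t2 : t * F.s 2 * t = F.s 3 := (hit 2).trans ((congrArg F.ι hφ.2.2.1).trans (F.ι_e 3))
  have t3 : t * F.s 3 * t = F.s 2 := (hit 3).trans ((congrArg F.ι hφ.2.2.2).trans (F.ι_e 2))
  have a0 : a * F.s 0 * a⁻¹ = F.s 1 := (hia 0).trans ((congrArg F.ι hA.1).trans (F.ι_e 1))
  have a1 : a * F.s 1 * a⁻¹ = F.s 2 := (hia 1).trans ((congrArg F.ι hA.2.1).trans (F.ι_e 2))
  have a2 : a * F.s 2 * a⁻¹ = F.s 0 := (hia 2).trans ((congrArg F.ι hA.2.2.1).trans (F.ι_e 0))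
  have a3' : a * F.s 3 * a⁻¹ = F.s 3 := (hia 3).trans ((congrArg F.ι hA.2.2.2).trans (F.ι_e 3))
  have x0 : x * F.s 0 * x = F.s 1 := (hix 0).trans ((congrArg F.ι hX.1).trans (F.ι_e 1))
  have x1 : x * F.s 1 * x = F.s 0 := (hix 1).trans ((congrArg F.ι hX.2.1).trans (F.ι_e 0))
  have x2 : x * F.s 2 * x = F.s 2 := (hix 2).trans ((congrArg F.ι hX.2.2).trans (F.ι_e 2))
  have x3 : x * F.s 3 * x = s := (hix 3).trans ((congrArg F.ι M.mX_facts.2.1).trans S.hs)
  have xs : x * s * x = F.s 3 := by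
    rw [← S.hs, hxact, M.mX_facts.1]; exact F.ι_e 3
  have hbase : ∀ w ∈ Uniq.baseRels, (w.map val).prod = 1 := by
    have conj1 : ∀ u v w : G, u * v * u⁻¹ = w → w * w = 1 → u * (v * (u⁻¹ * w)) = 1 := fun u v w e1 e2 => by
      calc u * (v * (u⁻¹ * w)) = (u * v * u⁻¹) * w := by group
        _ = 1 := by rw [e1, e2]
    have conj2 : ∀ u v w : G, u * v * u = w → w * w = 1 → u * (v * (u * w)) = 1 := fun u v w e1 e2 => by
      calc u * (v * (u * w)) = (u * v * u) * w := by group
        _ = 1 := by rw [e1, e2]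
    have comm1 : ∀ u v : G, u * v = v * u → u * (v * (u⁻¹ * v⁻¹)) = 1 := fun u v e => by
      calc u * (v * (u⁻¹ * v⁻¹)) = u * v * (u⁻¹ * v⁻¹) := by group
        _ = 1 := by rw [e]; group
    have comm2 : ∀ u v : G, u * v = v * u → u * u = 1 → v * v = 1 → u * (v * (u * v)) = 1 :=
      fun u v e eu ev => by
      calc u * (v * (u * v)) = u * (v * u) * v := by group
        _ = (u * u) * (v * v) := by rw [← e]; group
        _ = 1 := by rw [eu, ev, one_mul]
    have anti : ∀ i j, i ≠ j → F.s i * (F.s j * (F.s i * (F.s j * z))) = 1 := fun i j hij => by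
      calc F.s i * (F.s j * (F.s i * (F.s j * z))) = (F.s i * F.s j) * (F.s i * F.s j) * z := by group
        _ = z * (F.s j * F.s i) * (F.s i * F.s j) * z := by
          conv_lhs => arg 1; arg 1; rw [F.base.anti i j hij]
        _ = z * (F.s j * (F.s i * F.s i) * F.s j) * z := by group
        _ = 1 := by rw [F.base.sq i, mul_one, F.base.sq j, mul_one, h.zsq]
    have cube : ∀ u v : G, (u * v) ^ 3 = 1 → u * (v * (u * (v * (u * v)))) = 1 := fun u v e => by
      rw [← e, pow_three]; group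
    have hzf : ∀ i, z * F.s i = F.s i * z := F.base.zc
    have hgt : g * t = t * g := S.c.le g hgK
    simp only [Uniq.baseRels, List.mem_cons, List.not_mem_nil, or_false, forall_eq_or_imp, forall_eq,
      List.map_cons, List.map_nil, List.prod_cons, List.prod_nil, mul_one,
      v0, v1, v2, v3, v4, v5, v6, v7, v8, v9, v10, v11]
    refine ⟨trivial, mul_inv_cancel a, inv_mul_cancel a, mul_inv_cancel g, inv_mul_cancel g,
      F.base.sq 0, F.base.sq 1, F.base.sq 2, F.base.sq 3, hkk, htt, hxx, h.zsq, ?_, ?_,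
      conj1 a (F.s 0) _ a0 (F.base.sq 1), conj1 a (F.s 1) _ a1 (F.base.sq 2),
      conj1 a (F.s 2) _ a2 (F.base.sq 0), conj1 a (F.s 3) _ a3' (F.base.sq 3), ?_, ?_,
      comm1 g a (S.aK g hgK).symm, ?_, ?_, ?_, ?_,
      conj2 t (F.s 0) _ t0 (F.base.sq 1), conj2 t (F.s 1) _ t1 (F.base.sq 0),
      conj2 t (F.s 2) _ t2 (F.base.sq 3), conj2 t (F.s 3) _ t3 (F.base.sq 2),
      comm2 t z S.A.comm htt h.zsq,
      conj2 x (F.s 0) _ x0 (F.base.sq 1), conj2 x (F.s 1) _ x1 (F.base.sq 0),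
      conj2 x (F.s 2) _ x2 (F.base.sq 2), comm2 x z hxz hxx h.zsq,
      comm2 z _ (hzf 0) h.zsq (F.base.sq 0), comm2 z _ (hzf 1) h.zsq (F.base.sq 1),
      comm2 z _ (hzf 2) h.zsq (F.base.sq 2), comm2 z _ (hzf 3) h.zsq (F.base.sq 3),
      anti 0 1 (by decide), anti 0 2 (by decide), anti 0 3 (by decide),
      anti 1 2 (by decide), anti 1 3 (by decide), anti 2 3 (by decide),
      cube k (F.s 3) (F.ι_e 3 ▸ hkb), cube k z hkz, cube t a S.ta, cube t x htx, ?_, ?_, ?_, ?_⟩
    · rw [← S.a3, pow_three]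
    · rw [← hg3, pow_three]
    · calc a * (x * (a * x)) = (a * x) * (a * x) := by group
        _ = 1 := hax
    · calc a * (z * (a⁻¹ * z)) = (a * z) * a⁻¹ * z := by group
        _ = 1 := by rw [S.az, mul_inv_cancel_right, h.zsq]
    · calc g * (t * (g⁻¹ * t)) = (g * t) * g⁻¹ * t := by group
        _ = 1 := by rw [hgt, mul_inv_cancel_right, htt]
    · calc k * (a * (k * a⁻¹)) = k * (a * k) * a⁻¹ := by group
        _ = 1 := by rw [S.aK k hkK, ← mul_assoc, hkk, one_mul, mul_inv_cancel]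
    · rw [← hkg, pow_two]; group
    · exact comm2 k t (S.c.le k hkK) hkk htt
    · calc g * (F.s 0 * (F.s 1 * (F.s 2 * (F.s 3 * (g⁻¹ * z))))) =
            g * (F.s 0 * F.s 1 * F.s 2 * F.s 3) * g⁻¹ * z := by group
        _ = 1 := by rw [hs, hgs, h.zsq]
    · calc x * (F.s 3 * (x * (F.s 3 * (F.s 2 * (F.s 1 * F.s 0))))) =
            (x * F.s 3 * x) * (F.s 3 * (F.s 2 * (F.s 1 * F.s 0))) := by group
        _ = s * (s⁻¹) := by
          rw [x3, ← hs]
          simp only [mul_inv_rev, inv_eq_of_mul_eq_one_right (F.base.sq _)]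
        _ = 1 := mul_inv_cancel s
    · calc g * (z * (g⁻¹ * (F.s 3 * (F.s 2 * (F.s 1 * (F.s 0 * z)))))) =
            (g * z * g⁻¹) * (F.s 3 * (F.s 2 * (F.s 1 * F.s 0))) * z := by group
        _ = z * s * s⁻¹ * z := by
          rw [hgz, ← hs]
          simp only [mul_inv_rev, inv_eq_of_mul_eq_one_right (F.base.sq _)]
        _ = 1 := by rw [mul_inv_cancel_right, h.zsq]
    · calc _ = (k * (F.s 0 * F.s 1 * F.s 2 * F.s 3)) ^ 5 := by
            simp only [pow_succ, pow_zero, one_mul]; group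
        _ = 1 := by rw [hs]; exact hks
  -- the action on the cosets
  set C := Subgroup.centralizer ({z} : Set G) with hC
  have hbasept : ∀ y : G, y • ((1 : G) : G ⧸ C) = ((1 : G) : G ⧸ C) ↔ y * z = z * y := fun y => by
    rw [MulAction.Quotient.smul_coe, smul_eq_mul, mul_one, QuotientGroup.eq, mul_one, inv_mem_iff]
    exact mem_C
  have hsub : ∀ n ∈ Uniq.subL, val n • ((1 : G) : G ⧸ C) = ((1 : G) : G ⧸ C) := by
    simp only [Uniq.subL, List.mem_cons, List.not_mem_nil, or_false, forall_eq_or_imp, forall_eq,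
      v0, v1, v2, v3, v4, v5, v6, v7, v8, hbasept]
    exact ⟨(F.base.zc 0).symm, (F.base.zc 1).symm, (F.base.zc 2).symm, (F.base.zc 3).symm, trivial,
      S.A.comm, S.az, (show Commute a z from S.az).inv_left.eq, hxz⟩
  have hne : val 9 • ((1 : G) : G ⧸ C) ≠ ((1 : G) : G ⧸ C) := fun e => by
    rw [v9, hbasept] at e
    refine Invol.ne_one S.d.sord ?_
    rw [e, mul_inv_cancel_right] at hgz
    exact mul_eq_left.1 hgz.symm
  -- the value of the last relator
  obtain ⟨c, j, hcj⟩ : ∃ (c : Fin 4) (j : Fin 3), ((Uniq.xgRel c j).map val).prod = 1 := by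
    obtain ⟨b, hbdef⟩ : ∃ b, b = F.s 3 := ⟨_, rfl⟩
    rw [← hbdef] at hbb x3 xs a3'
    have hkb' : (k * b) ^ 3 = 1 := by rw [hbdef]; exact F.ι_e 3 ▸ hkb
    have hbinv : b⁻¹ = b := inv_eq_of_mul_eq_one_right hbb
    have hss := Invol.mul_self_eq_one S.d.sord
    have hsinv : s⁻¹ = s := inv_eq_of_mul_eq_one_right hss
    have hbz : b * z = z * b := by rw [hbdef]; exact (F.base.zc 3).symm
    have hbs : b * s * b = z * s := by
      obtain ⟨-, -, e, -⟩ := S.b_facts
      have e3 : F.ι (M.e 3) = b := by rw [hbdef]; exact F.ι_e 3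
      rwa [e3] at e
    have hkzk : k * z * k = z * k * z := by
      have : (k * z * k) * (z * k * z)⁻¹ = 1 := by
        rw [mul_inv_rev, mul_inv_rev, h.zinv, hkinv]
        calc k * z * k * (z * (k * z)) = (k * z) ^ 3 := by rw [pow_three]; group
          _ = 1 := hkz
      exact mul_inv_eq_one.1 this
    have hkbk : k * b * k = b * k * b := by
      have : (k * b * k) * (b * k * b)⁻¹ = 1 := by
        rw [mul_inv_rev, mul_inv_rev, hbinv, hkinv]
        calc k * b * k * (b * (k * b)) = (k * b) ^ 3 := by rw [pow_three]; group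
          _ = 1 := hkb'
      exact mul_inv_eq_one.1 this
    obtain ⟨W, hWdef⟩ : ∃ W, W = s * k * z * b * k := ⟨_, rfl⟩
    have hWinv : W⁻¹ = k * b * z * k * s := by
      rw [hWdef, mul_inv_rev, mul_inv_rev, mul_inv_rev, mul_inv_rev, hkinv, hbinv, h.zinv, hsinv]
      group
    have hWz : W * z * W⁻¹ = z * b := by
      rw [hWinv, hWdef]
      calc s * k * z * b * k * z * (k * b * z * k * s) = s * k * z * b * (k * z * k) * b * z * k * s := by group
        _ = s * k * z * (b * z) * k * (z * b) * z * k * s := by rw [hkzk]; group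
        _ = s * k * z * (z * b) * k * (b * z) * z * k * s := by rw [← hbz]
        _ = s * k * (z * z) * b * k * b * (z * z) * k * s := by group
        _ = s * (k * b * k) * b * k * s := by rw [h.zsq]; group
        _ = s * b * k * (b * b) * k * s := by rw [hkbk]; group
        _ = s * b * (k * k) * s := by rw [hbb]; group
        _ = s * b * s := by rw [hkk, mul_one]
        _ = z * b := by
          calc s * b * s = s * (b * s * b) * b⁻¹ := by group
            _ = s * (z * s) * b := by rw [hbs, hbinv]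
            _ = s * (s * z) * b := by rw [← S.d.sz]
            _ = z * b := by rw [← mul_assoc s s, hss, one_mul]
    have hWb : W * b * W⁻¹ = z := by
      rw [hWinv, hWdef]
      calc s * k * z * b * k * b * (k * b * z * k * s) = s * k * z * b * (k * b * k) * b * z * k * s := by group
        _ = s * k * z * (b * b) * k * (b * b) * z * k * s := by rw [hkbk]; group
        _ = s * k * (z * k * z) * k * s := by rw [hbb]; group
        _ = s * (k * k) * z * (k * k) * s := by rw [← hkzk]; group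
        _ = s * z * s := by rw [hkk]; group
        _ = z := by rw [S.d.sz, mul_assoc, hss, mul_one]
    obtain ⟨u, hudef⟩ : ∃ u, u = x * g * x := ⟨_, rfl⟩
    have huinv : u⁻¹ = x * g⁻¹ * x := by rw [hudef, mul_inv_rev, mul_inv_rev, hxinv]; group
    have hxzx : x * z * x = z := by rw [hxz, mul_assoc, hxx, mul_one]
    have huz : u * z * u⁻¹ = z * b := by
      rw [huinv, hudef]
      calc x * g * x * z * (x * g⁻¹ * x) = x * g * (x * z * x) * g⁻¹ * x := by group
        _ = x * (g * z * g⁻¹) * x := by rw [hxzx]; group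
        _ = x * (z * (x * x) * s) * x := by rw [hgz, hxx, mul_one]
        _ = (x * z * x) * (x * s * x) := by group
        _ = z * b := by rw [hxzx, xs]
    have hub : u * b * u⁻¹ = z := by
      rw [huinv, hudef]
      calc x * g * x * b * (x * g⁻¹ * x) = x * g * (x * b * x) * g⁻¹ * x := by group
        _ = x * (g * s * g⁻¹) * x := by rw [x3]; group
        _ = z := by rw [hgs, hxzx]
    have hxax : x * a * x = a⁻¹ := by
      refine eq_inv_of_mul_eq_one_right ?_
      calc a * (x * a * x) = (a * x) * (a * x) := by group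
        _ = 1 := hax
    have hga : Commute g a := (S.aK g hgK).symm
    have hua : Commute u a := by
      refine mul_inv_eq_iff_eq_mul.1 ?_
      rw [huinv, hudef]
      calc x * g * x * a * (x * g⁻¹ * x) = x * g * (x * a * x) * g⁻¹ * x := by group
        _ = x * (g * a⁻¹) * g⁻¹ * x := by rw [hxax]; group
        _ = x * a⁻¹ * x := by rw [hga.inv_right.eq]; group
        _ = (x * a * x)⁻¹ := by rw [mul_inv_rev, mul_inv_rev, hxinv, mul_assoc]
        _ = a := by rw [hxax, inv_inv]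
    have hba : Commute b a := (mul_inv_eq_iff_eq_mul.1 a3').symm
    have hWa : Commute W a := by
      rw [hWdef]
      exact ((((show Commute a s from S.aK s S.s_mem).symm.mul_left
        (show Commute a k from S.aK k hkK).symm).mul_left
        (show Commute a z from S.az).symm).mul_left hba).mul_left (show Commute a k from S.aK k hkK).symm
    obtain ⟨d, hddef⟩ : ∃ d, d = W⁻¹ * u := ⟨_, rfl⟩
    have hdz : d * z = z * d := by
      refine mul_inv_eq_iff_eq_mul.1 ?_
      rw [hddef]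
      calc W⁻¹ * u * z * (W⁻¹ * u)⁻¹ = W⁻¹ * (u * z * u⁻¹) * W := by group
        _ = W⁻¹ * (W * z * W⁻¹) * W := by rw [huz, hWz]
        _ = z := by group
    have hdb : d * b = b * d := by
      refine mul_inv_eq_iff_eq_mul.1 ?_
      rw [hddef]
      calc W⁻¹ * u * b * (W⁻¹ * u)⁻¹ = W⁻¹ * (u * b * u⁻¹) * W := by group
        _ = W⁻¹ * (W * b * W⁻¹) * W := by rw [hub, hWb]
        _ = b := by group
    have hda : d * a = a * d := hddef ▸ (hWa.inv_left.mul_left hua).eq
    obtain ⟨q, j, hdq⟩ := S.td.cent_C hdz hda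
    have hq : M.δ q * M.e 3 = M.e 3 * M.δ q := by
      refine F.ι_inj ?_
      have e3 : F.ι (M.e 3) = b := by rw [hbdef]; exact F.ι_e 3
      have hbaj : Commute (a ^ j) b := hba.symm.pow_left j
      rw [map_mul, map_mul, e3]
      calc F.ι (M.δ q) * b = F.ι (M.δ q) * a ^ j * b * (a ^ j)⁻¹ := by rw [mul_assoc (F.ι (M.δ q)), hbaj.eq]; group
        _ = d * b * (a ^ j)⁻¹ := by rw [hdq]
        _ = b * d * (a ^ j)⁻¹ := by rw [hdb]
        _ = _ := by rw [hdq]; group
    obtain ⟨c, hc⟩ : ∃ c : Fin 4, F.ι (M.δ q) = ((Uniq.four c).map val).prod := by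
      rcases (by decide +kernel : ∀ q : DihedralGroup 4, M.δ q * M.e 3 = M.e 3 * M.δ q →
        M.δ q = 1 ∨ M.δ q = M.zM ∨ M.δ q = M.e 3 ∨ M.δ q = M.zM * M.e 3) q hq with e | e | e | e
      · exact ⟨0, by simp [e, Uniq.four]⟩
      · exact ⟨1, by simp [e, Uniq.four, v4, F.ι_zM]⟩
      · exact ⟨2, by simp [e, Uniq.four, v3]; exact F.ι_e 3⟩
      · exact ⟨3, by simp [e, Uniq.four, v3, v4, F.ι_zM]; exact F.ι_e 3⟩
    refine ⟨c, ⟨j % 3, Nat.mod_lt _ (by norm_num)⟩, ?_⟩
    have haj : a ^ j = a ^ (j % 3) := by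
      conv_lhs => rw [← Nat.mod_add_div j 3, pow_add, pow_mul, S.a3, one_pow, mul_one]
    have hu : u = W * F.ι (M.δ q) * a ^ (j % 3) := by
      rw [mul_assoc, ← haj, ← hdq, hddef, mul_inv_cancel_left]
    have hmapinv : ∀ w : List ℕ, ((w.reverse.map Uniq.invL).map val).prod = ((w.map val).prod)⁻¹ := by
      intro w
      induction w with
      | nil => simp
      | cons n w ih =>
        rw [List.reverse_cons, List.map_append, List.map_append, List.prod_append, ih]
        simp [hinv]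
    have hWword : (Uniq.wordW.map val).prod = W := by
      rw [hWdef, ← hs, hbdef]
      simp [Uniq.wordW, v0, v1, v2, v3, v4, v11, mul_assoc]
    rw [Uniq.xgRel, List.map_append, List.prod_append, hmapinv, List.map_append, List.map_append,
      List.prod_append, List.prod_append, hWword, ← hc, List.map_replicate, List.prod_replicate, v6, ← hu,
      hudef]
    simp only [List.map_cons, List.map_nil, List.prod_cons, List.prod_nil, mul_one, v8, v9]
    group
  obtain ⟨rfl, rfl⟩ := Uniq.case_eq v12 hinv hbase hsub hne hcj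
  refine Uniq.equiv_TG v12 hinv hbase hsub hne hcj ?_ ?_ ?_
  · intro y hy
    rw [hbasept] at hy
    set H := Subgroup.closure (Set.range fun n : Fin 12 => val n) with hH
    have hv : ∀ n : Fin 12, val n ∈ H := fun n => Subgroup.subset_closure ⟨n, rfl⟩
    have hQH : ∀ m, F.ι m ∈ H := fun m => by
      have hp : ∀ n : Fin 12, ∀ b : ZMod 2, pw (val n) b ∈ H := fun n b => by
        rcases z2_cases b with rfl | rfl <;> simp [one_mem, hv n]
      exact mul_mem (hp 4 _) (mul_mem (hp 0 _) (mul_mem (hp 1 _) (mul_mem (hp 2 _) (hp 3 _))))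
    obtain ⟨w, -, hw⟩ := M.even_words (F.π h y) (F.π_sign h hy)
    have key : ∀ w : List (Fin 3), (w.map ![t, a, x]).prod * z = z * (w.map ![t, a, x]).prod ∧
        (w.map ![t, a, x]).prod ∈ H ∧ F.π h (w.map ![t, a, x]).prod = (w.map ![M.τ0, M.τσ, M.τX]).prod := by
      intro w
      have hxπ : F.π h x = M.τX := by
        refine Equiv.ext fun i => F.π_eq_of h hxz (a := 0) ?_
        rw [hxinv, hxact, M.zp_zero, one_mul, M.mX_facts.2.2.1]
      induction w with
      | nil => simp [one_mem, F.π_one h]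
      | cons i w ih =>
        obtain ⟨hz', hH', hπ'⟩ := ih
        obtain ⟨hiz, hiH, hiπ⟩ : (![t, a, x] : Fin 3 → G) i * z = z * (![t, a, x] : Fin 3 → G) i ∧
            (![t, a, x] : Fin 3 → G) i ∈ H ∧
            F.π h ((![t, a, x] : Fin 3 → G) i) = (![M.τ0, M.τσ, M.τX] : Fin 3 → Equiv.Perm (Fin 5)) i := by
          fin_cases i
          · exact ⟨S.A.comm, hv 5, S.A.π_eq⟩
          · exact ⟨S.az, hv 6, S.π_a⟩
          · exact ⟨hxz, hv 8, hxπ⟩
        simp only [List.map_cons, List.prod_cons]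
        exact ⟨((show Commute _ z from hiz).mul_left hz').eq, mul_mem hiH hH',
          by rw [F.π_mul h hiz hz', hiπ, hπ']⟩
    obtain ⟨hwz, hwH, hwπ⟩ := key w
    have hwi := h.commute_inv hwz
    have hm : y * ((w.map ![t, a, x]).prod)⁻¹ ∈ Q := (F.π_eq_one_iff h
      ((show Commute y z from hy).mul_left hwi).eq).1 (by
        rw [F.π_mul h hy hwi, F.π_inv h hwz, hwπ, hw, mul_inv_cancel])
    obtain ⟨m, hm'⟩ := F.ι_surj h hm
    have := mul_mem (hQH m) hwH
    rwa [hm', inv_mul_cancel_right] at this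
  · show C.index = 315
    have := C.card_mul_index
    rw [h.cardC, h.card_G] at this
    omega
  · intro y hy
    have hkerQ : ∀ y : G, (∀ q : G ⧸ C, y • q = q) → y = 1 ∨ y = z := by
      intro y hy
      have hall : ∀ u : G, u⁻¹ * y * u * z = z * (u⁻¹ * y * u) := fun u => by
        rw [← hbasept]
        have e := hy (u • ((1 : G) : G ⧸ C))
        rw [← mul_smul] at e
        rw [mul_assoc, mul_smul, e, inv_smul_smul]
      have hyz : y * z = z * y := by simpa using hall 1
      refine h.cQ y fun q hq => ?_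
      obtain ⟨m, rfl⟩ := F.ι_surj h hq
      have hgenQ : ∀ i : Fin 4, y * F.s i = F.s i * y := fun i => by
        have hio : orderOf (F.s i) = 2 := by
          refine orderOf_eq_prime (hp := ⟨Nat.prime_two⟩) (by rw [pow_two]; exact F.base.sq i) fun e => ?_
          exact (M.e_ne i.castSucc).1 (F.ι_inj (by rw [F.ι_e, e, map_one]))
        obtain ⟨u, hu⟩ := isConj_iff.1 (h.isConj_of_mem (F.mem i) hio)
        rw [← hu]
        calc y * (u * z * u⁻¹) = u * (u⁻¹ * y * u * z) * u⁻¹ := by group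
          _ = u * z * u⁻¹ * y := by rw [hall u]; group
      have := DFunLike.congr_fun (F.base.ext_base (f := (MulAut.conj y).toMonoidHom.comp F.ι) (g := F.ι)
        (by
          show y * F.ι M.zM * y⁻¹ = F.ι M.zM
          rw [F.ι_zM, hyz, mul_inv_cancel_right])
        (fun i => by
          show y * F.ι (M.e i.castSucc) * y⁻¹ = F.ι (M.e i.castSucc)
          rw [F.ι_e, hgenQ i, mul_inv_cancel_right])) m
      exact (mul_inv_eq_iff_eq_mul.1 this).symm
    refine (hkerQ y hy).resolve_right fun e => ?_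
    rw [e] at hy
    rcases hkerQ (g * z * g⁻¹) (fun q => by rw [mul_smul, mul_smul, hy, smul_inv_smul]) with e' | e'
    · exact h.zne (conj_eq_one_iff.1 e')
    · exact Invol.ne_one S.d.sord (mul_eq_left.1 (hgz ▸ e'))

end Cfsg.Agent.HallJanko
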