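import Cfsg.Agent.HallJanko.Uniq.Check

/-!
The relators. Letters: 0-3 the frame, 4 the central involution, 5 outer involution, 6/7 order three and inverse,
8 second outer involution, 9/10 order three in the kernel and inverse, 11 involution of the kernel.
-/

set_option autoImplicit false
set_option maxRecDepth 100000
set_option linter.all false

namespace Cfsg.Agent.HallJanko.Uniq

/-- The relators that do not depend on the case. -/
def baseRels : List (List ℕ) :=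
  [[],
   [6, 7],
   [7, 6],
   [9, 10],
   [10, 9],
   [0, 0],
   [1, 1],
   [2, 2],
   [3, 3],
   [11, 11],
   [5, 5],
   [8, 8],
   [4, 4],
   [6, 6, 6],
   [9, 9, 9],
   [6, 0, 7, 1],
   [6, 1, 7, 2],
   [6, 2, 7, 0],
   [6, 3, 7, 3],
   [6, 8, 6, 8],
   [6, 4, 7, 4],
   [9, 6, 10, 7],
   [9, 5, 10, 5],
   [11, 6, 11, 7],
   [11, 9, 11, 9],
   [11, 5, 11, 5],
   [5, 0, 5, 1],
   [5, 1, 5, 0],
   [5, 2, 5, 3],
   [5, 3, 5, 2],
   [5, 4, 5, 4],
   [8, 0, 8, 1],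
   [8, 1, 8, 0],
   [8, 2, 8, 2],
   [8, 4, 8, 4],
   [4, 0, 4, 0],
   [4, 1, 4, 1],
   [4, 2, 4, 2],
   [4, 3, 4, 3],
   [0, 1, 0, 1, 4],
   [0, 2, 0, 2, 4],
   [0, 3, 0, 3, 4],
   [1, 2, 1, 2, 4],
   [1, 3, 1, 3, 4],
   [2, 3, 2, 3, 4],
   [11, 3, 11, 3, 11, 3],
   [11, 4, 11, 4, 11, 4],
   [5, 6, 5, 6, 5, 6],
   [5, 8, 5, 8, 5, 8],
   [9, 0, 1, 2, 3, 10, 4],
   [8, 3, 8, 3, 2, 1, 0],
   [9, 4, 10, 3, 2, 1, 0, 4],
   [11, 0, 1, 2, 3, 11, 0, 1, 2, 3, 11, 0, 1, 2, 3, 11, 0, 1, 2, 3, 11, 0, 1, 2, 3]]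

/-- The value of the last relator: `x g x` is this word followed by a power of `a`. -/
def wordW : List ℕ := [0, 1, 2, 3, 11, 4, 3, 11]

/-- The four possible corrections. -/
def four : Fin 4 → List ℕ := ![[], [4], [3], [4, 3]]

/-- The letters fixing the base point. -/
def subL : List ℕ := [0, 1, 2, 3, 4, 5, 6, 7, 8]

end Cfsg.Agent.HallJanko.Uniq
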