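import Cfsg.Agent.HallJanko.Uniq.Autom
import Cfsg.Agent.HallJanko.KElems
import Cfsg.Agent.HallJanko.Three

/-!
A normalised setup: outer involution, element of order three centralising the kernel, second outer involution.
-/

set_option autoImplicit false

namespace Cfsg.Agent.HallJanko

variable {G : Type*} [Group G] [Finite G] {z : G} {Q : Subgroup G}

/-- The normalised data. -/
structure Setup (h : HJ z Q) (F : Frame z Q) (t s g a : G) (K : Subgroup G) : Prop where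
  A : F.Adapted h t
  d : CT z Q t s g
  c : CT.Split z Q t g K
  hs : F.ι (M.e 4) = s
  az : a * z = z * a
  a3 : a ^ 3 = 1
  aK : ∀ k ∈ K, a * k = k * a
  act : ∀ x, a * F.ι x * a⁻¹ = F.ι (M.autf M.mA x)
  ta : (t * a) ^ 3 = 1

theorem HJ.exists_adapted_four (h : HJ z Q) : ∃ (F : Frame z Q) (t s g : G) (K : Subgroup G),
    F.Adapted h t ∧ CT z Q t s g ∧ CT.Split z Q t g K ∧ F.ι (M.e 4) = s := by
  obtain ⟨t, ht, -⟩ := h.exists_outer
  obtain ⟨F, A⟩ := h.exists_adapted ht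
  obtain ⟨s, g, K, d, c⟩ := h.exists_split_all ht
  obtain ⟨α, hα⟩ := A.fixed d.sQ d.st
  rcases hα with hα | hα
  · exfalso
    rw [F.ι_zp] at hα
    rcases z2_cases α with rfl | rfl
    · exact Invol.ne_one d.sord (by rw [hα, pw_zero])
    · exact d.sne (by rw [hα, pw_one])
  · rcases z2_cases α with rfl | rfl
    · exact ⟨F, t, s, g, K, A, d, c, by rw [hα, M.zp_zero, one_mul]⟩
    · obtain ⟨F', A', hι⟩ := A.reframe h M.reframe_swap.1
      exact ⟨F', t, s, g, K, A', d, c, by rw [hι, M.reframe_swap.2, hα, M.zp_one]⟩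

theorem HJ.exists_setup (h : HJ z Q) :
    ∃ (F : Frame z Q) (t s g a : G) (K : Subgroup G), Setup h F t s g a K := by
  classical
  obtain ⟨F, t, s, g, K, Ad, d, c, hs⟩ := h.exists_adapted_four
  obtain ⟨A, hA12, hAN, hFA, hAK, hAinf, hAt, -⟩ := c.N_decomp d h
  have hzK : z ∈ K := CT.z_mem_K c d h
  have hsK : s ∈ K := c.vle ((d.mem_TV h).2 (Or.inr (Or.inr (Or.inl rfl))))
  have hAz : ∀ y ∈ A, y * z = z * y := fun y hy => hAK y hy z hzK
  have hAQ : ∀ q ∈ A, q ∈ Q → q = 1 := by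
    intro q hqA hqQ
    have htF := d.t_mem_F
    have hm : q * t * q⁻¹ ∈ TF z t g := (Subgroup.mem_normalizer_iff.1 (hAN hqA) t).1 htF
    have hw : q * t * q⁻¹ * t⁻¹ ∈ Q := by
      rw [show q * t * q⁻¹ * t⁻¹ = q * (t * q⁻¹ * t⁻¹) by group]
      exact mul_mem hqQ (h.normal t d.outer.comm _ (inv_mem hqQ))
    have h1 : q * t * q⁻¹ * t⁻¹ = 1 :=
      d.F_inf_V h (mul_mem hm (inv_mem htF)) ⟨hw, (mul_mem hm (inv_mem htF)).1.2⟩
    have hqt : q * t = t * q := mul_inv_eq_iff_eq_mul.1 (mul_inv_eq_one.1 h1)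
    have hqF := hAt q hqA hqt
    exact d.F_inf_V h hqF ⟨hqQ, hqF.1.2⟩
  let f : A →* Equiv.Perm (Fin 5) := MonoidHom.mk' (fun y => F.π h (y : G)) fun u v =>
    F.π_mul h (hAz _ u.2) (hAz _ v.2)
  have hf : Function.Injective f := (injective_iff_map_eq_one f).2 fun y hy =>
    Subtype.ext (hAQ _ y.2 ((F.π_eq_one_iff h (hAz _ y.2)).1 hy))
  haveI : Fintype A := Fintype.ofFinite _
  let S : Finset (Equiv.Perm (Fin 5)) :=
    Finset.univ.filter fun σ => Equiv.Perm.sign σ = 1 ∧ σ 4 = 4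
  have himg : Finset.univ.image f = S := by
    refine Finset.eq_of_subset_of_card_le (fun σ hσ => ?_) ?_
    · obtain ⟨y, -, rfl⟩ := Finset.mem_image.1 hσ
      refine Finset.mem_filter.2 ⟨Finset.mem_univ _, F.π_sign h (hAz _ y.2), ?_⟩
      refine F.π_eq_of h (hAz _ y.2) (a := 0) ?_
      rw [M.zp_zero, one_mul, hs, hAK _ y.2 s hsK, mul_inv_cancel_right]
    · rw [Finset.card_image_of_injective _ hf, Finset.card_univ, ← Nat.card_eq_fintype_card, hA12]
      decide +kernel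
  obtain ⟨⟨a, ha⟩, -, haπ⟩ := Finset.mem_image.1 (himg.symm ▸
    Finset.mem_filter.2 ⟨Finset.mem_univ _, M.τσ_sign, M.τσ_four⟩ : M.τσ ∈ Finset.univ.image f)
  have haπ' : F.π h a = M.τσ := haπ
  have haz := hAz a ha
  have a3 : a ^ 3 = 1 := hAQ _ (pow_mem ha 3) ((F.π_eq_one_iff h ((show Commute a z from haz).pow_left 3).eq).1
    (by rw [F.π_pow h haz, haπ', M.τσ_pow.2]))
  have htA := hFA d.t_mem_F
  have hta : (t * a) ^ 3 = 1 := hAQ _ (pow_mem (mul_mem htA ha) 3) ((F.π_eq_one_iff h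
    ((show Commute (t * a) z from (show Commute t z from d.outer.comm).mul_left haz).pow_left 3).eq).1 (by
      rw [F.π_pow h ((show Commute t z from d.outer.comm).mul_left haz).eq, F.π_mul h d.outer.comm haz, haπ',
        Ad.π_eq]
      decide +kernel))
  obtain ⟨α, hα⟩ := F.exists_signs h haz haπ'
  have hα' : (fun i : Fin 4 => M.zp (α i) * M.e (M.τσ i.castSucc)) =
      M.mAs ![α 0, α 1, α 2, α 3] := by
    funext i; fin_cases i <;> rfl
  rw [hα'] at hα
  have htinv := Invol.inv_eq_self d.outer.ord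
  have hc1 := M.sign_A (α 0) (α 1) (α 2) (α 3) (fun x => F.ι_inj (by
    rw [← hα, ← hα, ← hα]
    calc a * (a * (a * F.ι x * a⁻¹) * a⁻¹) * a⁻¹ = a ^ 3 * F.ι x * (a ^ 3)⁻¹ := by rw [pow_three]; group
      _ = F.ι x := by rw [a3]; group)) (fun x => F.ι_inj (by
    rw [← Ad.conj, ← hα, ← Ad.conj, ← hα, ← Ad.conj, ← hα]
    calc t * (a * (t * (a * (t * (a * F.ι x * a⁻¹) * t) * a⁻¹) * t) * a⁻¹) * t
        = (t * a) ^ 3 * F.ι x * (a⁻¹ * t) ^ 3 := by simp only [pow_three]; group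
      _ = F.ι x := by
        rw [hta, show (a⁻¹ * t) ^ 3 = ((t * a) ^ 3)⁻¹ by rw [← inv_pow, mul_inv_rev, htinv], hta]
        group))
  obtain ⟨h0, h3, h12⟩ := hc1
  rw [h0, h3, ← h12] at hα
  rcases z2_cases (α 1) with e | e <;> rw [e] at hα
  · rw [M.mAs_zero] at hα
    exact ⟨F, t, s, g, a, K, Ad, d, c, hs, haz, a3, hAK a ha, hα, hta⟩
  · obtain ⟨hR, he4, hflip⟩ := M.reframe_flip
    obtain ⟨F', A', hι⟩ := Ad.reframe h hR
    refine ⟨F', t, s, g, a, K, A', d, c, by rw [hι, he4, hs], haz, a3, hAK a ha, ?_, hta⟩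
    refine F'.conj_autf h haz fun i => ?_
    rw [show M.mA i = M.e (M.τσ i.castSucc) by fin_cases i <;> rfl, hι (M.e (M.τσ i.castSucc)), F'.ι_e i,
      ← hflip i, ← hα]
    congr 2
    rw [← F'.ι_e i, hι]
    congr 1
    exact (by decide +kernel : ∀ i : Fin 4,
      M.autf ![M.zM * M.e 0, M.zM * M.e 1, M.e 2, M.e 3] (M.e i.castSucc) =
        (![M.zM * M.e 0, M.zM * M.e 1, M.e 2, M.e 3] : Fin 4 → M) i) i

namespace Setup

variable {h : HJ z Q} {F : Frame z Q} {t s g a : G} {K : Subgroup G} (S : Setup h F t s g a K)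
include S

theorem π_a : F.π h a = M.τσ := by
  refine Equiv.ext fun i => F.π_eq_of h S.az (a := 0) ?_
  rw [S.act, M.zp_zero, one_mul]
  exact congrArg F.ι ((by decide +kernel : ∀ i : Fin 5, M.autf M.mA (M.e i) = M.e (M.τσ i)) i)

theorem fix_a {x : M} (hx : M.autf M.mA x = x) : a * F.ι x = F.ι x * a := by
  refine mul_inv_eq_iff_eq_mul.1 ?_
  rw [S.act, hx]

theorem td : TD F h a := by
  refine ⟨S.az, orderOf_eq_prime (hp := ⟨Nat.prime_three⟩) S.a3 fun e => ?_, S.π_a,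
    S.fix_a M.mA_facts.2.1, S.fix_a M.mA_facts.1⟩
  have := S.π_a
  rw [e, F.π_one h] at this
  exact absurd this (by decide +kernel)

theorem exists_second : ∃ x : G, x * x = 1 ∧ x * z = z * x ∧
    (∀ m, x * F.ι m * x = F.ι (M.autf M.mX m)) ∧ (t * x) ^ 3 = 1 ∧ (a * x) * (a * x) = 1 := by
  obtain ⟨hX2, hX1, hXs, hX2', hXfix, -, -⟩ := M.τX_facts
  obtain ⟨σ, hσ, hσX⟩ := M.τ0_conj M.τX hX2 hX1 hXs
  obtain ⟨c, hc, hcπ⟩ := F.π_surj h hσ
  have htz := S.A.comm
  have hci := h.commute_inv hc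
  obtain ⟨y, hydef⟩ : ∃ y, y = c * t * c⁻¹ := ⟨_, rfl⟩
  have hyz : y * z = z * y := by
    rw [hydef]; exact (((show Commute c z from hc).mul_left htz).mul_left hci).eq
  have hyy : y * y = 1 := by
    rw [hydef]
    calc c * t * c⁻¹ * (c * t * c⁻¹) = c * (t * t) * c⁻¹ := by group
      _ = 1 := by rw [Invol.mul_self_eq_one S.A.ord]; group
  have hyinv : y⁻¹ = y := inv_eq_of_mul_eq_one_right hyy
  have hyπ : F.π h y = M.τX := by rw [hydef, F.π_conj h hc htz, hcπ, S.A.π_eq, hσX]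
  obtain ⟨β, hβ⟩ := F.exists_signs h hyz hyπ
  have hβ' : (fun i : Fin 4 => M.zp (β i) * M.e (M.τX i.castSucc)) =
      M.mXs ![β 0, β 1, β 2, β 3] := by
    funext i; fin_cases i <;> rfl
  rw [hβ', hyinv] at hβ
  have hb2 : β 2 = 0 := by
    obtain ⟨γ, hγ⟩ := F.π_spec h hc 4
    rw [hcπ] at hγ
    have hfix : y * F.ι (M.zp γ * M.e (σ 4)) * y = F.ι (M.zp γ * M.e (σ 4)) := by
      rw [← hγ, hydef]
      calc c * t * c⁻¹ * (c * F.ι (M.e 4) * c⁻¹) * (c * t * c⁻¹)
          = c * (t * F.ι (M.e 4) * t) * c⁻¹ := by group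
        _ = _ := by rw [S.A.conj, M.φ_e4]
    have hσ4 : σ 4 = 2 := hXfix _ (by
      rw [← hσX, Equiv.Perm.mul_apply, Equiv.Perm.mul_apply,
        show σ⁻¹ (σ 4) = 4 from σ.symm_apply_apply 4]
      exact congrArg σ (by decide +kernel))
    rw [hσ4, hβ] at hfix
    exact (by decide +kernel : ∀ b0 b1 b2 b3 γ : ZMod 2,
      M.autf (M.mXs ![b0, b1, b2, b3]) (M.zp γ * M.e 2) = M.zp γ * M.e 2 → b2 = 0)
      _ _ _ _ γ (F.ι_inj hfix)
  obtain ⟨q, hq⟩ := M.adjust_X (β 0) (β 1) (β 2) (β 3) (fun m => F.ι_inj (by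
    rw [← hβ, ← hβ]
    calc y * (y * F.ι m * y) * y = (y * y) * F.ι m * (y * y) := by group
      _ = _ := by rw [hyy, one_mul, mul_one])) hb2
  have hqz := F.ι_comm h q
  have hqi := h.commute_inv hqz
  obtain ⟨x, hxdef⟩ : ∃ x, x = F.ι q * y * (F.ι q)⁻¹ := ⟨_, rfl⟩
  have hxz : x * z = z * x := by
    rw [hxdef]; exact (((show Commute (F.ι q) z from hqz).mul_left hyz).mul_left hqi).eq
  have hxx : x * x = 1 := by
    rw [hxdef]
    calc F.ι q * y * (F.ι q)⁻¹ * (F.ι q * y * (F.ι q)⁻¹) = F.ι q * (y * y) * (F.ι q)⁻¹ := by group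
      _ = 1 := by rw [hyy]; group
  have hxinv : x⁻¹ = x := inv_eq_of_mul_eq_one_right hxx
  have hxgen : ∀ i : Fin 4, x * F.ι (M.e i.castSucc) * x⁻¹ = F.ι (M.mX i) := fun i => by
    rw [← hq i, map_mul, map_mul, map_inv, ← hβ, map_mul, map_mul, map_inv, hxdef, mul_inv_rev,
      mul_inv_rev, inv_inv, hyinv]
    group
  have hxact : ∀ m, x * F.ι m * x = F.ι (M.autf M.mX m) := fun m => by
    have := F.conj_autf h hxz hxgen m
    rwa [hxinv] at this
  have hxπ : F.π h x = M.τX := by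
    refine Equiv.ext fun i => F.π_eq_of h hxz (a := 0) ?_
    rw [hxinv, hxact, M.zp_zero, one_mul, M.mX_facts.2.2.1]
  -- the cube is normalised by multiplying with z
  have hcube : (t * x) ^ 3 = 1 ∨ (t * x) ^ 3 = z := by
    have hz3 : (t * x) ^ 3 * z = z * (t * x) ^ 3 :=
      ((((show Commute t z from htz).mul_left hxz)).pow_left 3).eq
    rcases F.eq_of_action h hz3 (d := 1) (by simp) (fun i => by
      rw [one_mul, inv_one, mul_one]
      calc (t * x) ^ 3 * F.ι (M.e i.castSucc) * ((t * x) ^ 3)⁻¹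
          = t * (x * (t * (x * (t * (x * F.ι (M.e i.castSucc) * x⁻¹) * t⁻¹) * x⁻¹) * t⁻¹) * x⁻¹) * t⁻¹ := by
            rw [pow_three]; group
        _ = _ := by
            rw [hxinv, Invol.inv_eq_self S.A.ord, hxact, S.A.conj, hxact, S.A.conj, hxact, S.A.conj,
              M.tx_cube]) with e | e
    · exact Or.inl e
    · exact Or.inr (by rw [e, one_mul])
  have hax : ∀ x' : G, x' * x' = 1 → x' * z = z * x' → F.π h x' = M.τX →
      (∀ m, x' * F.ι m * x' = F.ι (M.autf M.mX m)) → (a * x') * (a * x') = 1 := by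
    intro x' hx'x hx'z hx'π hx'act
    have hx'inv : x'⁻¹ = x' := inv_eq_of_mul_eq_one_right hx'x
    obtain ⟨w, hwdef⟩ : ∃ w, w = a * x' := ⟨_, rfl⟩
    rw [← hwdef]
    have hwz : w * z = z * w := by rw [hwdef]; exact ((show Commute a z from S.az).mul_left hx'z).eq
    have hwact : ∀ m, w * F.ι m * w⁻¹ = F.ι (M.autf M.mA (M.autf M.mX m)) := fun m => by
      calc w * F.ι m * w⁻¹ = a * (x' * F.ι m * x'⁻¹) * a⁻¹ := by rw [hwdef]; group
        _ = _ := by rw [hx'inv, hx'act, S.act]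
    have hwπ : F.π h w = M.τσ * M.τX := by rw [hwdef, F.π_mul h S.az hx'z, S.π_a, hx'π]
    obtain ⟨σ', hσ', hσ'w⟩ := M.τ0_conj (M.τσ * M.τX) M.τX_facts.2.2.2.2.2.2 (by decide +kernel) (by decide +kernel)
    obtain ⟨c', hc', hc'π⟩ := F.π_surj h hσ'
    obtain ⟨u, hudef⟩ : ∃ u, u = c' * t * c'⁻¹ := ⟨_, rfl⟩
    have huz : u * z = z * u := by
      rw [hudef]; exact (((show Commute c' z from hc').mul_left htz).mul_left (h.commute_inv hc')).eq
    have hum : w⁻¹ * u ∈ Q := by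
      refine (F.π_eq_one_iff h ((show Commute w z from hwz).inv_left.mul_left huz).eq).1 ?_
      rw [F.π_mul h (show Commute w z from hwz).inv_left.eq huz, F.π_inv h hwz, hwπ, hudef,
        F.π_conj h hc' htz, hc'π, S.A.π_eq, hσ'w, inv_mul_cancel]
    obtain ⟨m, hm⟩ := F.ι_surj h hum
    have hu : u = w * F.ι m := by rw [hm, mul_inv_cancel_left]
    have huu : u * u = 1 := by
      rw [hudef]
      calc c' * t * c'⁻¹ * (c' * t * c'⁻¹) = c' * (t * t) * c'⁻¹ := by group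
        _ = 1 := by rw [Invol.mul_self_eq_one S.A.ord]; group
    have hww : w * w = 1 ∨ w * w = z := by
      rcases F.eq_of_action h ((show Commute w z from hwz).mul_left hwz).eq (d := 1) (by simp) (fun i => by
        rw [one_mul, inv_one, mul_one]
        calc w * w * F.ι (M.e i.castSucc) * (w * w)⁻¹ = w * (w * F.ι (M.e i.castSucc) * w⁻¹) * w⁻¹ := by group
          _ = _ := by rw [hwact, hwact, M.ax_sq]) with e | e
      · exact Or.inl e
      · exact Or.inr (by rw [e, one_mul])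
    rcases hww with e | e
    · exact e
    · exfalso
      refine absurd (M.ax_value m 1 (F.ι_inj ?_)) (by decide)
      rw [map_mul, map_mul, map_one, ← hwact, F.ι_zp, pw_one]
      calc w * F.ι m * w⁻¹ * z * F.ι m = w * F.ι m * w⁻¹ * (w * w) * F.ι m :=
            congrArg (fun v => w * F.ι m * w⁻¹ * v * F.ι m) e.symm
        _ = (w * F.ι m) * (w * F.ι m) := by group
        _ = 1 := by rw [← hu, huu]
  rcases hcube with e | e
  · exact ⟨x, hxx, hxz, hxact, e, hax x hxx hxz hxπ hxact⟩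
  · have hzx : Commute z x := (show Commute x z from hxz).symm
    have hx'x : z * x * (z * x) = 1 := by
      calc z * x * (z * x) = z * (x * z) * x := by group
        _ = (z * z) * (x * x) := by rw [hxz]; group
        _ = 1 := by rw [h.zsq, hxx, one_mul]
    have hx'z : z * x * z = z * (z * x) := ((Commute.refl z).mul_left hxz).eq
    have hx'act : ∀ m, z * x * F.ι m * (z * x) = F.ι (M.autf M.mX m) := fun m => by
      calc z * x * F.ι m * (z * x) = z * x * F.ι m * (x * z) := congrArg (z * x * F.ι m * ·) hxz.symm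
        _ = z * (x * F.ι m * x) * z := by group
        _ = _ := by rw [hxact, ← F.ι_comm h, mul_assoc, h.zsq, mul_one]
    have hx'π : F.π h (z * x) = M.τX := by
      rw [F.π_mul h rfl hxz, (F.π_eq_one_iff h rfl).2 h.zmem, one_mul, hxπ]
    refine ⟨z * x, hx'x, hx'z, hx'act, ?_, hax _ hx'x hx'z hx'π hx'act⟩
    have hc1 : Commute z (t * x) := ((show Commute t z from htz).mul_left hxz).symm
    have : t * (z * x) = z * (t * x) := by rw [← mul_assoc, htz, mul_assoc]
    rw [this, hc1.mul_pow, e, pow_three, h.zsq, mul_one, h.zsq]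

end Setup

end Cfsg.Agent.HallJanko
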