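import Cfsg.Agent.HallJanko.Klein
import Cfsg.Agent.LargeExtra.Quotient
import Cfsg.Agent.Invol.ZStar

/-!
In a simple group the central involution has a further conjugate in the extraspecial subgroup.
-/

set_option autoImplicit false

namespace Cfsg.Agent.HallJanko

variable {G : Type*} [Group G] [Finite G] {z : G} {Q : Subgroup G}

theorem HJCore.exists_nwc [IsSimpleGroup G] (h : HJCore z Q) :
    ∃ g : G, g * z * g⁻¹ ∈ Q ∧ g * z * g⁻¹ ≠ z := by
  by_contra hno
  push Not at hno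
  have hzC : z ∈ Subgroup.centralizer ({z} : Set G) := mem_C.2 rfl
  -- Glauberman: some further conjugate commutes with `z`
  obtain ⟨g, hgc, hgne⟩ : ∃ g : G, Commute z (g * z * g⁻¹) ∧ g * z * g⁻¹ ≠ z := by
    by_contra hiso
    push Not at hiso
    have hO : Cfsg.oddCore G = ⊥ := by
      refine ((inferInstance : (Cfsg.oddCore G).Normal).eq_bot_or_eq_top).resolve_right fun e => ?_
      have hzO : z ∈ Cfsg.oddCore G := e ▸ Subgroup.mem_top z
      refine Core.not_dvd_card_pPrimeCore (p := 2) (G := G) ?_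
      have h2 := orderOf_dvd_natCard (⟨z, hzO⟩ : Cfsg.oddCore G)
      rwa [Subgroup.orderOf_mk, h.hz] at h2
    have hcen : ∀ u : G, u * z = z * u := fun u => by
      have := Invol.zstar (⟨h.hz, hiso⟩ : Cfsg.IsIsolatedInvolution z) u
      rw [hO, Subgroup.mem_bot, mul_inv_eq_one, mul_inv_eq_iff_eq_mul] at this
      exact this.symm
    have hzcenter : z ∈ Subgroup.center G := Subgroup.mem_center_iff.2 hcen
    rcases (inferInstance : (Subgroup.center G).Normal).eq_bot_or_eq_top with e | e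
    · rw [e, Subgroup.mem_bot] at hzcenter
      exact h.zne hzcenter
    · -- an abelian group would make `Q` central
      have hall : ∀ u v : G, u * v = v * u := fun u v =>
        (Subgroup.mem_center_iff.1 (e ▸ Subgroup.mem_top u) v).symm
      obtain ⟨F⟩ := h.exists_frame
      have := F.base.anti 0 1 (by decide)
      rw [hall (F.s 1) (F.s 0)] at this
      exact h.zne (right_eq_mul.1 this)
  have hvo : orderOf (g * z * g⁻¹) = 2 := by rw [Invol.orderOf_conj, h.hz]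
  have houter : ∀ g : G, Commute z (g * z * g⁻¹) → g * z * g⁻¹ ≠ z → Outer z Q (g * z * g⁻¹) :=
    fun g hc hne => ⟨by rw [Invol.orderOf_conj, h.hz], hc.eq.symm, fun hm => hne (hno g hm)⟩
  have hv := houter g hgc hgne
  -- involutions commuting with both that are no conjugates of z lie in Q
  have hinQ : ∀ w : G, orderOf w = 2 → w * z = z * w → ¬ IsConj z w → w ∈ Q := by
    intro w hwo hwz hwc
    by_contra hwQ
    obtain ⟨c, -, hc⟩ := h.outer_conj hv ⟨hwo, hwz, hwQ⟩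
    exact hwc (isConj_iff.2 ⟨c * g, by rw [← hc]; group⟩)
  have hnotconj : ∀ w : G, w ∈ Q → w ≠ z → ¬ IsConj z w := fun w hw hne e => by
    obtain ⟨c, hc⟩ := isConj_iff.1 e
    exact hne (by rw [← hc]; exact hno c (hc.symm ▸ hw))
  -- the pairs for an outer conjugate
  have hpair : ∀ v : G, Outer z Q v → ∃ w : G, w ∈ Q ∧ w ≠ 1 ∧ w ≠ z ∧ w * v = v * w ∧
      w * z = z * w ∧ orderOf w = 2 ∧
      ∀ u ∈ Q, u * v = v * u → u = 1 ∨ u = z ∨ u = w ∨ u = z * w := by
    intro v hv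
    obtain ⟨F, A⟩ := h.exists_adapted hv
    have hne : F.ι (M.e 4) ≠ 1 ∧ F.ι (M.e 4) ≠ z := ⟨fun e => (M.e_ne 4).1 (F.ι_inj (e.trans (map_one F.ι).symm)),
      fun e => (M.e_ne 4).2 (F.ι_inj (e.trans F.ι_zM.symm))⟩
    refine ⟨F.ι (M.e 4), F.ι_mem h _, hne.1, hne.2, A.four_comm.symm, F.ι_comm h _,
      orderOf_eq_prime (hp := ⟨Nat.prime_two⟩) (by rw [pow_two, ← map_mul, M.e_mul_self, map_one]) hne.1,
      fun u hu huv => ?_⟩
    obtain ⟨a, ha⟩ := A.fixed hu huv
    rw [F.ι_zp, map_mul, F.ι_zp] at ha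
    rcases z2_cases a with rfl | rfl <;> simp only [pw_zero, pw_one, one_mul] at ha <;> tauto
  obtain ⟨w, -, -, -, -, -, -, hwall⟩ := hpair _ hv
  -- the conjugate by `g⁻¹`
  have hgi : g⁻¹ * z * g⁻¹⁻¹ ≠ z := fun e => hgne (by
    calc g * z * g⁻¹ = g * (g⁻¹ * z * g⁻¹⁻¹) * g⁻¹ := by rw [e]
      _ = z := by group)
  have hgic : Commute z (g⁻¹ * z * g⁻¹⁻¹) := by
    show z * (g⁻¹ * z * g⁻¹⁻¹) = g⁻¹ * z * g⁻¹⁻¹ * z
    calc z * (g⁻¹ * z * g⁻¹⁻¹) = g⁻¹ * ((g * z * g⁻¹) * z) * g := by group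
      _ = g⁻¹ * (z * (g * z * g⁻¹)) * g := by rw [hgc.eq]
      _ = _ := by group
  obtain ⟨w', hw'Q, hw'1, hw'z, hw'v, hw'c, hw'o, -⟩ := hpair _ (houter g⁻¹ hgic hgi)
  have hmove : ∀ u : G, u ∈ Q → u ≠ z → orderOf u = 2 → u * (g⁻¹ * z * g⁻¹⁻¹) = g⁻¹ * z * g⁻¹⁻¹ * u →
      g * u * g⁻¹ = w ∨ g * u * g⁻¹ = z * w := by
    intro u hu hne huo huv
    have hnc : ¬ IsConj z (g * u * g⁻¹) := fun e =>
      hnotconj u hu hne (e.trans (isConj_iff.2 ⟨g⁻¹, by group⟩))
    have ho : orderOf (g * u * g⁻¹) = 2 := by rw [Invol.orderOf_conj, huo]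
    have hz' : g * u * g⁻¹ * z = z * (g * u * g⁻¹) := by
      calc g * u * g⁻¹ * z = g * (u * (g⁻¹ * z * g⁻¹⁻¹)) * g⁻¹ := by group
        _ = g * (g⁻¹ * z * g⁻¹⁻¹ * u) * g⁻¹ := by rw [huv]
        _ = _ := by group
    have hv' : g * u * g⁻¹ * (g * z * g⁻¹) = g * z * g⁻¹ * (g * u * g⁻¹) := by
      calc g * u * g⁻¹ * (g * z * g⁻¹) = g * (u * z) * g⁻¹ := by group
        _ = g * (z * u) * g⁻¹ := by rw [h.le u hu]
        _ = _ := by group
    rcases hwall _ (hinQ _ ho hz' hnc) hv' with e | e | e | e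
    · exact absurd e (Invol.ne_one ho)
    · exact absurd (e ▸ IsConj.refl z) hnc
    · exact Or.inl e
    · exact Or.inr e
  have hzw1 : z * w' ≠ 1 := fun e => hw'z ((inv_eq_of_mul_eq_one_right e).symm.trans h.zinv)
  have hzwo : orderOf (z * w') = 2 := by
    refine orderOf_eq_prime (hp := ⟨Nat.prime_two⟩) ?_ hzw1
    rw [(show Commute z w' from hw'c.symm).mul_pow, pow_two, h.zsq, pow_two, Invol.mul_self_eq_one hw'o,
      one_mul]
  have hzwv : z * w' * (g⁻¹ * z * g⁻¹⁻¹) = g⁻¹ * z * g⁻¹⁻¹ * (z * w') :=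
    (((show Commute z _ from hgic).mul_left (show Commute w' _ from hw'v))).eq
  have h1 := hmove w' hw'Q hw'z hw'o hw'v
  have h2 := hmove (z * w') (mul_mem h.zmem hw'Q) (fun e => hw'1 (mul_eq_left.1 e)) hzwo hzwv
  have hprod : g * (z * w') * g⁻¹ = g * z * g⁻¹ * (g * w' * g⁻¹) := by group
  rcases h1 with e1 | e1 <;> rcases h2 with e2 | e2 <;> rw [hprod, e1] at e2
  · exact Invol.ne_one hvo (mul_eq_right.1 e2)
  · exact hgne (mul_right_cancel e2)
  · exact hgne (mul_right_cancel (b := z * w)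
      (by rw [e2, ← mul_assoc, h.zsq, one_mul]))
  · exact Invol.ne_one hvo (mul_eq_right.1 e2)

/-- The setting from the hypotheses on a simple group. -/
theorem HJ.of_simple [IsSimpleGroup G] (t : G) (ht : orderOf t = 2)
    (Q : Subgroup (Subgroup.centralizer ({t} : Set G))) [Q.Normal] (hQ : Cfsg.IsExtraspecial 2 Q)
    (hcard : Nat.card Q = 32)
    (h2c : Subgroup.centralizer (Q : Set (Subgroup.centralizer ({t} : Set G))) ≤ Q)
    (e : (Subgroup.centralizer ({t} : Set G)) ⧸ Q ≃* alternatingGroup (Fin 5))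
    (hcl : ∃ x y : G, orderOf x = 2 ∧ orderOf y = 2 ∧ ¬ IsConj x y) :
    HJ t (Q.map (Subgroup.centralizer ({t} : Set G)).subtype) := by
  classical
  let eQ : Q ≃* Q.map (Subgroup.centralizer ({t} : Set G)).subtype := Subgroup.equivMapOfInjective Q (Subgroup.centralizer ({t} : Set G)).subtype (Subgroup.centralizer ({t} : Set G)).subtype_injective
  let tC : (Subgroup.centralizer ({t} : Set G)) := ⟨t, mem_C.2 rfl⟩
  have htcen : ∀ c : (Subgroup.centralizer ({t} : Set G)), tC * c = c * tC := fun c => Subtype.ext (mem_C.1 c.2).symm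
  have htQ : tC ∈ Q := h2c (Subgroup.mem_centralizer_iff.2 fun q _ => (htcen q).symm)
  have htne : (⟨tC, htQ⟩ : Q) ≠ 1 := fun e' =>
    Invol.ne_one ht (congrArg (fun x : Q => ((x : ↥(Subgroup.centralizer ({t} : Set G))) : G)) e')
  have hcenQ : ∀ x : Q, x ∈ Subgroup.center Q → x = 1 ∨ x = ⟨tC, htQ⟩ := by
    intro x hx
    haveI : Fintype Q := Fintype.ofFinite _
    have htm : (⟨tC, htQ⟩ : Q) ∈ Subgroup.center Q :=
      Subgroup.mem_center_iff.2 fun q => Subtype.ext (htcen q).symm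
    have h2 : Nat.card (Subgroup.center Q) = 2 := hQ.2
    rw [Nat.card_eq_two_iff' (1 : Subgroup.center Q)] at h2
    obtain ⟨y, -, hy⟩ := h2
    by_cases hx1 : x = 1
    · exact Or.inl hx1
    · have a1 := hy ⟨x, hx⟩ (fun e' => hx1 (congrArg Subtype.val e'))
      have a2 := hy ⟨_, htm⟩ (fun e' => htne (congrArg Subtype.val e'))
      exact Or.inr (congrArg Subtype.val (a1.trans a2.symm))
  have hcore : HJCore t (Q.map (Subgroup.centralizer ({t} : Set G)).subtype) := by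
    refine ⟨ht, ?_, ?_, LargeExtra.extraspecial_congr eQ hQ, ?_, ⟨tC, htQ, rfl⟩, ?_, ?_⟩
    · rintro _ ⟨q, -, rfl⟩
      exact mem_C.1 q.2
    · rintro c hc _ ⟨q, hq, rfl⟩
      exact ⟨⟨c, mem_C.2 hc⟩ * q * ⟨c, mem_C.2 hc⟩⁻¹, Subgroup.Normal.conj_mem inferInstance q hq _, by simp⟩
    · rw [← Nat.card_congr eQ.toEquiv, hcard]
    · intro c hc
      have hcC : c ∈ (Subgroup.centralizer ({t} : Set G)) := mem_C.2 (hc t ⟨tC, htQ, rfl⟩).symm
      have hm : (⟨c, hcC⟩ : ↥(Subgroup.centralizer ({t} : Set G))) ∈ Q := h2c (Subgroup.mem_centralizer_iff.2 fun q hq =>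
        Subtype.ext (hc q ⟨q, hq, rfl⟩))
      rcases hcenQ ⟨_, hm⟩ (Subgroup.mem_center_iff.2 fun q => Subtype.ext (Subtype.ext
        (hc _ ⟨q, q.2, rfl⟩))) with e' | e'
      · exact Or.inl (congrArg (fun x : Q => ((x : ↥(Subgroup.centralizer ({t} : Set G))) : G)) e')
      · exact Or.inr (congrArg (fun x : Q => ((x : ↥(Subgroup.centralizer ({t} : Set G))) : G)) e')
    · rw [Subgroup.card_eq_card_quotient_mul_card_subgroup Q, Nat.card_congr e.toEquiv, hcard,
        nat_card_alternatingGroup, Nat.card_fin]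
      rfl
  exact ⟨hcore, hcore.exists_nwc, hcl⟩

end Cfsg.Agent.HallJanko
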