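import Cfsg.Agent.HallJanko.Uniq.Setup

/-!
The centraliser of the element of order three on the six cosets of the kernel.
-/

set_option autoImplicit false

namespace Cfsg.Agent.HallJanko

namespace Six

/-- The standard central involution. -/
def z0 : Equiv.Perm (Fin 6) := Equiv.swap 0 1 * Equiv.swap 2 3

/-- The second involution of the four group. -/
def s0 : Equiv.Perm (Fin 6) := Equiv.swap 0 3 * Equiv.swap 1 2

/-- The standard element of order three. -/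
def g0 : Equiv.Perm (Fin 6) := Equiv.swap 1 2 * Equiv.swap 2 3

/-- The standard inverting involution. -/
def k0 : Equiv.Perm (Fin 6) := Equiv.swap 0 4 * Equiv.swap 2 3

theorem facts : g0 * z0 * g0⁻¹ = z0 * s0 ∧ Equiv.Perm.sign k0 = 1 ∧ k0 5 = 5 ∧ k0 * k0 = 1 ∧
    (k0 * g0) ^ 2 = 1 ∧ (k0 * z0) ^ 3 = 1 ∧ (k0 * s0) ^ 5 = 1 ∧ z0 * z0 = 1 ∧ s0 * s0 = 1 ∧
    s0 * z0 = z0 * s0 := by
  decide +kernel

theorem norm_z : ∀ v : Equiv.Perm (Fin 6), v 5 = 5 → v * v = 1 → v ≠ 1 → Equiv.Perm.sign v = 1 →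
    ∃ σ : Equiv.Perm (Fin 6), σ 5 = 5 ∧ σ * v * σ⁻¹ = z0 := by
  decide +kernel

theorem norm_g : ∀ v : Equiv.Perm (Fin 6), v 5 = 5 → Equiv.Perm.sign v = 1 → v ^ 3 = 1 →
    v * z0 * v⁻¹ ≠ z0 → v * z0 * v⁻¹ * z0 = z0 * (v * z0 * v⁻¹) →
    v * (z0 * (v * z0 * v⁻¹)) * v⁻¹ = z0 →
    ∃ σ : Equiv.Perm (Fin 6), σ 5 = 5 ∧ σ * z0 * σ⁻¹ = z0 ∧ σ * v * σ⁻¹ = g0 := by
  decide +kernel

theorem b_cases : ∀ b : Equiv.Perm (Fin 6), b 5 ≠ 5 → Equiv.Perm.sign b = 1 → b * b = 1 →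
    b * z0 = z0 * b → b * s0 * b = z0 * s0 →
    (k0 * b) ^ 3 = 1 ∨ (s0 * k0 * s0 * b) ^ 3 = 1 := by
  decide +kernel

end Six

variable {G : Type*} [Group G] [Finite G] {z : G} {Q : Subgroup G}

namespace Setup

variable {h : HJ z Q} {F : Frame z Q} {t s g a : G} {K : Subgroup G} (S : Setup h F t s g a K)
include S

theorem K_le_CR : K ≤ CR a := fun k hk => mem_C.2 (S.aK k hk).symm

theorem z_mem : z ∈ K := CT.z_mem_K S.c S.d h

theorem s_mem : s ∈ K := S.c.vle ((S.d.mem_TV h).2 (Or.inr (Or.inr (Or.inl rfl))))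

theorem K_inf {y : G} (hy : y ∈ Subgroup.zpowers a) (hyK : y ∈ K) : y = 1 := by
  by_contra hne
  have hat : a * t = t * a := by
    rcases S.td.cases_zpowers hy hne with rfl | rfl
    · exact S.c.le _ hyK
    · simpa using ((show Commute a⁻¹ t from S.c.le _ hyK).inv_left).eq
  have := congrArg (F.π h) hat
  rw [F.π_mul h S.az S.A.comm, F.π_mul h S.A.comm S.az, S.π_a, S.A.π_eq] at this
  exact absurd this (by decide +kernel)

theorem b_facts : F.ι (M.e 3) * F.ι (M.e 3) = 1 ∧ F.ι (M.e 3) * z = z * F.ι (M.e 3) ∧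
    F.ι (M.e 3) * s * F.ι (M.e 3) = z * s ∧ F.ι (M.e 3) ∈ CR a := by
  refine ⟨by rw [← map_mul, M.e_mul_self, map_one], F.ι_comm h _, ?_,
    mem_C.2 (S.fix_a M.mA_facts.2.1).symm⟩
  rw [← S.hs, ← map_mul, ← map_mul, (by decide +kernel : M.e 3 * M.e 4 * M.e 3 = M.zM * M.e 4), map_mul, F.ι_zM]

theorem b_conj_g : ¬ (F.ι (M.e 3) * g * F.ι (M.e 3)) * t = t * (F.ι (M.e 3) * g * F.ι (M.e 3)) := by
  intro hc
  obtain ⟨b, hbdef⟩ : ∃ b, b = F.ι (M.e 3) := ⟨_, rfl⟩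
  rw [← hbdef] at hc
  have hbb : b * b = 1 := by rw [hbdef]; exact S.b_facts.1
  have h1 : g * (b * t * b) = b * t * b * g := by
    calc g * (b * t * b) = (b * b) * g * (b * t * b) := by rw [hbb, one_mul]
      _ = b * ((b * g * b) * t) * b := by group
      _ = b * t * b * g * (b * b) := by rw [hc]; group
      _ = _ := by rw [hbb, mul_one]
  have h2 : b * t * b * t = F.ι (M.e 3 * M.e 2) := by
    rw [map_mul, hbdef, (by decide +kernel : M.e 2 = M.φ (M.e 3)), ← S.A.conj]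
    group
  have h3 : g * F.ι (M.e 3 * M.e 2) = F.ι (M.e 3 * M.e 2) * g := by
    rw [← h2, ← mul_assoc, h1, mul_assoc, S.d.gt, ← mul_assoc]
  have h4 : g * z = z * g := by
    have e : F.ι (M.e 3 * M.e 2) * F.ι (M.e 3 * M.e 2) = z := by
      rw [← map_mul, (by decide +kernel : M.e 3 * M.e 2 * (M.e 3 * M.e 2) = M.zM), F.ι_zM]
    have := ((show Commute g _ from h3).mul_right h3).eq
    rwa [e] at this
  refine Invol.ne_one S.d.sord ?_
  have := S.d.gz
  rw [h4, mul_inv_cancel_right] at this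
  exact mul_eq_left.1 this.symm

theorem exists_inverter_g : ∃ u ∈ K, u * u = 1 ∧ u ≠ 1 ∧ g * u * (g * u) = 1 ∧ g * u ≠ 1 := by
  obtain ⟨e⟩ := S.c.alt_five S.d h (h.card_all S.d S.c).1
  have key : ∀ σ : Equiv.Perm (Fin 5), Equiv.Perm.sign σ = 1 → σ ^ 3 = 1 → σ ≠ 1 →
      ∃ τ : Equiv.Perm (Fin 5), Equiv.Perm.sign τ = 1 ∧ τ * τ = 1 ∧ τ ≠ 1 ∧
        σ * τ * (σ * τ) = 1 ∧ σ * τ ≠ 1 := by decide +kernel
  let g' : K := ⟨g, S.c.g_mem⟩
  have hne : ((e g' : alternatingGroup (Fin 5)) : Equiv.Perm (Fin 5)) ≠ 1 := fun e' =>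
    S.d.g_ne (congrArg Subtype.val (e.map_eq_one_iff.1 (Subtype.ext e')))
  obtain ⟨τ, hτ, hττ, hτ1, hστ, hστ1⟩ := key _ (e g').2 (by
    rw [← SubgroupClass.coe_pow, ← map_pow, show g' ^ 3 = 1 from Subtype.ext S.d.g3, map_one]
    rfl) hne
  obtain ⟨u, hu⟩ := e.surjective ⟨τ, hτ⟩
  have hu' : ((e u : alternatingGroup (Fin 5)) : Equiv.Perm (Fin 5)) = τ := by rw [hu]
  have hval : ∀ w : K, (w : G) = 1 ↔ ((e w : alternatingGroup (Fin 5)) : Equiv.Perm (Fin 5)) = 1 := fun w =>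
    ⟨fun e' => by rw [show w = 1 from Subtype.ext e', map_one]; rfl,
      fun e' => congrArg Subtype.val (e.map_eq_one_iff.1 (Subtype.ext e'))⟩
  refine ⟨u, u.2, (hval (u * u)).2 ?_, fun e' => hτ1 ?_, (hval (g' * u * (g' * u))).2 ?_, fun e' => hστ1 ?_⟩
  · rw [map_mul, Subgroup.coe_mul, hu', hττ]
  · rw [← hu']; exact (hval u).1 e'
  · rw [map_mul, map_mul, Subgroup.coe_mul, Subgroup.coe_mul, hu', hστ]
  · rw [← hu', ← Subgroup.coe_mul, ← map_mul]; exact (hval (g' * u)).1 e'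

theorem exists_six : ∃ φ : CR a →* Equiv.Perm (Fin 6),
    (∀ y, φ y = 1 ↔ (y : G) ∈ Subgroup.zpowers a) ∧
    (∀ y, φ y 5 = 5 ↔ ∃ k ∈ K, k⁻¹ * (y : G) ∈ Subgroup.zpowers a) ∧
    (∀ y, Equiv.Perm.sign (φ y) = 1) ∧
    ∀ σ, Equiv.Perm.sign σ = 1 → ∃ y, φ y = σ := by
  classical
  have hle := S.K_le_CR
  let i : K →* XR a := (QuotientGroup.mk' (RR a)).comp (Subgroup.inclusion hle)
  have hi : Function.Injective i := (injective_iff_map_eq_one i).2 fun k hk =>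
    Subtype.ext (S.K_inf ((XR_eq_one _).1 hk) k.2)
  let H := i.range
  have hH : Nat.card H = 60 := by
    rw [← Nat.card_congr (MonoidHom.ofInjective hi).toEquiv, (h.card_all S.d S.c).1]
  have hidx : Nat.card (XR a ⧸ H) = 6 := by
    have := Subgroup.card_eq_card_quotient_mul_card_subgroup H
    rw [hH, S.td.card_X] at this
    omega
  have hmem : ∀ y : CR a, (y : XR a) ∈ H ↔ ∃ k ∈ K, k⁻¹ * (y : G) ∈ Subgroup.zpowers a := by
    intro y
    constructor
    · rintro ⟨k, hk⟩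
      refine ⟨k, k.2, ?_⟩
      have := QuotientGroup.eq.1 hk
      rw [Subgroup.mem_subgroupOf] at this
      exact this
    · rintro ⟨k, hk, hky⟩
      exact ⟨⟨k, hk⟩, QuotientGroup.eq.2 (Subgroup.mem_subgroupOf.2 hky)⟩
  -- the kernel is not normal
  have hcore : H.normalCore = ⊥ := by
    rcases S.c.K_simple S.d h (H.normalCore.comap i) with e | e
    · rw [eq_bot_iff]
      intro w hw
      obtain ⟨k, rfl⟩ := Subgroup.normalCore_le H hw
      have : k ∈ H.normalCore.comap i := hw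
      rw [e, Subgroup.mem_bot] at this
      rw [this, map_one]
      exact one_mem _
    · exfalso
      have hle' : H ≤ H.normalCore := by
        rintro _ ⟨k, rfl⟩
        exact (e ▸ Subgroup.mem_top k : k ∈ H.normalCore.comap i)
      have hn : H.Normal := le_antisymm (Subgroup.normalCore_le H) hle' ▸ Subgroup.normalCore_normal H
      obtain ⟨hbb, -, -, hbCR⟩ := S.b_facts
      have hinvK : ∀ u ∈ K, u * u = 1 → u ≠ 1 → F.ι (M.e 3) * u * F.ι (M.e 3) ∈ K := by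
        intro u hu huu hu1
        have hconj := hn.conj_mem ((⟨u, hle hu⟩ : CR a) : XR a) ⟨⟨u, hu⟩, rfl⟩
          ((⟨_, hbCR⟩ : CR a) : XR a)
        rw [← QuotientGroup.mk_inv, ← QuotientGroup.mk_mul, ← QuotientGroup.mk_mul, hmem] at hconj
        obtain ⟨k, hk, hky⟩ := hconj
        push_cast at hky
        rw [inv_eq_of_mul_eq_one_right hbb] at hky
        obtain ⟨v, hvdef⟩ : ∃ v, v = F.ι (M.e 3) * u * F.ι (M.e 3) := ⟨_, rfl⟩
        rw [← hvdef] at hky ⊢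
        obtain ⟨w, hwdef⟩ : ∃ w, w = k⁻¹ * v := ⟨_, rfl⟩
        rw [← hwdef] at hky
        have hv : v = k * w := by rw [hwdef, mul_inv_cancel_left]
        have hwk : w * k = k * w := by
          obtain ⟨j, hj⟩ := Subgroup.mem_zpowers_iff.1 hky
          rw [← hj]
          exact ((show Commute a k from S.aK k hk).zpow_left j).eq
        have hvv : v * v = 1 := by
          rw [hvdef]
          calc _ = F.ι (M.e 3) * u * (F.ι (M.e 3) * F.ι (M.e 3)) * u * F.ι (M.e 3) := by group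
            _ = F.ι (M.e 3) * (u * u) * F.ι (M.e 3) := by rw [hbb]; group
            _ = 1 := by rw [huu, mul_one, hbb]
        have hww : w * w * (k * k) = 1 := by
          calc w * w * (k * k) = w * (w * k) * k := by group
            _ = w * (k * w) * k := by rw [hwk]
            _ = w * k * (w * k) := by group
            _ = 1 := by rw [hwk, ← hv, hvv]
        have hw2 : w * w = 1 := S.K_inf (mul_mem hky hky) (by
          rw [mul_eq_one_iff_eq_inv.1 hww]; exact inv_mem (mul_mem hk hk))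
        have hw1 := S.td.zpow_one hky (n := 2) (by norm_num) (by rw [pow_two]; exact hw2)
        rw [hv, hw1, mul_one]; exact hk
      obtain ⟨u, hu, huu, hu1, hgu, hgu1⟩ := S.exists_inverter_g
      have m1 := hinvK u hu huu hu1
      have m2 := hinvK (g * u) (mul_mem S.c.g_mem hu) hgu hgu1
      refine S.b_conj_g (S.c.le _ ?_)
      have := mul_mem m2 m1
      convert this using 1
      calc F.ι (M.e 3) * g * F.ι (M.e 3) = F.ι (M.e 3) * (g * (u * u)) * F.ι (M.e 3) := by rw [huu, mul_one]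
        _ = F.ι (M.e 3) * (g * u) * (F.ι (M.e 3) * F.ι (M.e 3)) * u * F.ι (M.e 3) := by rw [hbb]; group
        _ = _ := by group
  let e0 : XR a ⧸ H ≃ Fin 6 := Finite.equivFinOfCardEq hidx
  let e : XR a ⧸ H ≃ Fin 6 := e0.trans (Equiv.swap (e0 ((1 : XR a) : XR a ⧸ H)) 5)
  have he : e ((1 : XR a) : XR a ⧸ H) = 5 := Equiv.swap_apply_left _ _
  let ψ : XR a →* Equiv.Perm (Fin 6) := e.permCongrHom.toMonoidHom.comp (MulAction.toPermHom (XR a) (XR a ⧸ H))
  have hψ : Function.Injective ψ := by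
    have hinj : Function.Injective (MulAction.toPermHom (XR a) (XR a ⧸ H)) := by
      rw [← MonoidHom.ker_eq_bot_iff, ← Subgroup.normalCore_eq_ker, hcore]
    exact e.permCongrHom.injective.comp hinj
  have hrange : ψ.range = alternatingGroup (Fin 6) := by
    refine Equiv.Perm.eq_alternatingGroup_of_index_eq_two ?_
    have hi := ψ.range.card_mul_index
    rw [← Nat.card_congr (MonoidHom.ofInjective hψ).toEquiv, S.td.card_X, Nat.card_perm, Nat.card_fin,
      show Nat.factorial 6 = 720 from rfl] at hi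
    omega
  refine ⟨ψ.comp (QuotientGroup.mk' (RR a)), fun y => ?_, fun y => ?_, fun y => ?_, fun σ hσ => ?_⟩
  · show ψ (y : XR a) = 1 ↔ _
    rw [← XR_eq_one, map_eq_one_iff ψ hψ]
  · rw [← hmem]
    show e ((y : XR a) • e.symm 5) = 5 ↔ _
    rw [show e.symm 5 = ((1 : XR a) : XR a ⧸ H) from e.symm_apply_eq.2 he.symm,
      MulAction.Quotient.smul_coe, smul_eq_mul, mul_one]
    constructor
    · intro e'
      have := QuotientGroup.eq.1 (e.injective (he.trans e'.symm))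
      simpa using this
    · intro hy
      rw [← he]
      exact congrArg e (QuotientGroup.eq.2 (by simpa using hy))
  · exact (hrange ▸ MonoidHom.mem_range.2 ⟨(y : XR a), rfl⟩ : ψ (y : XR a) ∈ alternatingGroup (Fin 6))
  · obtain ⟨w, hw⟩ : σ ∈ ψ.range := hrange ▸ hσ
    obtain ⟨y, rfl⟩ := QuotientGroup.mk'_surjective _ w
    exact ⟨y, hw⟩

/-- Generators of the kernel with the relation linking them to the fourth generator of `Q`. -/
theorem exists_gk : ∃ g' k : G, g' ∈ K ∧ g' ^ 3 = 1 ∧ g' * z * g'⁻¹ = z * s ∧ g' * s * g'⁻¹ = z ∧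
    k ∈ K ∧ k * k = 1 ∧ (k * g') ^ 2 = 1 ∧ (k * z) ^ 3 = 1 ∧ (k * s) ^ 5 = 1 ∧
    (k * F.ι (M.e 3)) ^ 3 = 1 := by
  classical
  obtain ⟨φ0, hker, hfix, hsign, hsurj⟩ := S.exists_six
  obtain ⟨hbb, hbz, hbs, hbCR⟩ := S.b_facts
  have hle := S.K_le_CR
  let zz : CR a := ⟨z, hle S.z_mem⟩
  let ss : CR a := ⟨s, hle S.s_mem⟩
  let gg : CR a := ⟨g, hle S.c.g_mem⟩
  let bb : CR a := ⟨F.ι (M.e 3), hbCR⟩
  have hfixK : ∀ y : CR a, (y : G) ∈ K → φ0 y 5 = 5 := fun y hy =>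
    (hfix y).2 ⟨y, hy, by simp⟩
  have hinjK : ∀ y : CR a, (y : G) ∈ K → φ0 y = 1 → (y : G) = 1 := fun y hy e =>
    S.K_inf ((hker y).1 e) hy
  have hgz : gg * zz * gg⁻¹ = zz * ss := Subtype.ext S.d.gz
  have hgs : gg * ss * gg⁻¹ = zz := Subtype.ext S.d.gs
  have hzs : zz * ss = ss * zz := Subtype.ext S.d.sz.symm
  have hzz : zz * zz = 1 := Subtype.ext h.zsq
  -- normalise the images of z and g
  obtain ⟨σ₁, hσ₁5, hσ₁z⟩ := Six.norm_z (φ0 zz) (hfixK _ S.z_mem) (by rw [← map_mul, hzz, map_one])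
    (fun e => h.zne (hinjK _ S.z_mem e)) (hsign _)
  let φ1 : CR a →* Equiv.Perm (Fin 6) := (MulAut.conj σ₁).toMonoidHom.comp φ0
  have hφ1z : φ1 zz = Six.z0 := hσ₁z
  have hφ1 : ∀ y, φ1 y = σ₁ * φ0 y * σ₁⁻¹ := fun _ => rfl
  have hφ1ne : φ1 gg * Six.z0 * (φ1 gg)⁻¹ ≠ Six.z0 := by
    rw [← hφ1z, ← map_inv, ← map_mul, ← map_mul, hgz, map_mul]
    intro e
    rw [mul_eq_left, hφ1, conj_eq_one_iff] at e
    exact Invol.ne_one S.d.sord (hinjK _ S.s_mem e)
  have hz0 := Six.facts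
  have hs1 : Six.z0 * (φ1 gg * Six.z0 * (φ1 gg)⁻¹) = φ1 ss := by
    rw [← hφ1z, ← map_inv, ← map_mul, ← map_mul, ← map_mul, hgz, ← mul_assoc, hzz, one_mul]
  obtain ⟨σ₂, hσ₂5, hσ₂z, hσ₂g⟩ := Six.norm_g (φ1 gg)
    (by
      rw [hφ1, Equiv.Perm.mul_apply, Equiv.Perm.mul_apply, show σ₁⁻¹ 5 = 5 from σ₁.symm_apply_eq.2 hσ₁5.symm,
        hfixK _ S.c.g_mem, hσ₁5])
    (by rw [hφ1, map_mul, map_mul, map_inv, hsign]; simp)
    (by rw [← map_pow, show gg ^ 3 = 1 from Subtype.ext S.d.g3, map_one]) hφ1ne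
    (by
      rw [← hφ1z, ← map_inv, ← map_mul, ← map_mul, ← map_mul, ← map_mul, hgz]
      congr 1
      calc zz * ss * zz = zz * (ss * zz) := by group
        _ = zz * (zz * ss) := by rw [← hzs])
    (by rw [hs1, ← map_inv, ← map_mul, ← map_mul, hgs, hφ1z])
  let φ : CR a →* Equiv.Perm (Fin 6) := (MulAut.conj σ₂).toMonoidHom.comp φ1
  have hφ : ∀ y, φ y = σ₂ * σ₁ * φ0 y * (σ₂ * σ₁)⁻¹ := fun y => by
    show σ₂ * (σ₁ * φ0 y * σ₁⁻¹) * σ₂⁻¹ = _
    group
  have hfix' : ∀ y, φ y 5 = 5 ↔ φ0 y 5 = 5 := by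
    intro y
    have h5 : (σ₂ * σ₁) 5 = 5 := by rw [Equiv.Perm.mul_apply, hσ₁5, hσ₂5]
    have h5' : (σ₂ * σ₁)⁻¹ 5 = 5 := (σ₂ * σ₁).symm_apply_eq.2 h5.symm
    rw [hφ, Equiv.Perm.mul_apply, Equiv.Perm.mul_apply, h5']
    constructor
    · intro e; exact (σ₂ * σ₁).injective (e.trans h5.symm)
    · intro e; rw [e, h5]
  have hinj' : ∀ y : CR a, (y : G) ∈ K → φ y = 1 → (y : G) = 1 := fun y hy e =>
    hinjK y hy (conj_eq_one_iff.1 ((hφ y).symm.trans e))
  have hsign' : ∀ y, Equiv.Perm.sign (φ y) = 1 := fun y => by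
    rw [hφ, map_mul, map_mul, map_inv, hsign, mul_one, mul_inv_cancel]
  have ez : φ zz = Six.z0 := by
    show σ₂ * φ1 zz * σ₂⁻¹ = _
    rw [hφ1z, hσ₂z]
  have eg : φ gg = Six.g0 := hσ₂g
  have es : φ ss = Six.s0 := by
    have e := congrArg φ hgz
    rw [map_mul, map_mul, map_mul, map_inv, eg, ez, hz0.1] at e
    exact (mul_left_cancel e).symm
  obtain ⟨kk, hkk⟩ : ∃ kk : CR a, (kk : G) ∈ K ∧ φ kk = Six.k0 := by
    obtain ⟨y, hy⟩ := hsurj ((σ₂ * σ₁)⁻¹ * Six.k0 * (σ₂ * σ₁)) (by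
      rw [map_mul, map_mul, map_inv, hz0.2.1, mul_one, inv_mul_cancel])
    have hyk : φ y = Six.k0 := by rw [hφ, hy]; group
    obtain ⟨k, hk, hky⟩ := (hfix y).1 ((hfix' y).1 (by rw [hyk]; exact hz0.2.2.1))
    refine ⟨⟨k, hle hk⟩, hk, ?_⟩
    have : φ ((⟨k, hle hk⟩ : CR a)⁻¹ * y) = 1 := by
      rw [hφ, (hker _).2 (by exact hky), mul_one, mul_inv_cancel]
    rw [map_mul, map_inv, inv_mul_eq_one] at this
    rw [this, hyk]
  have hrel : ∀ w : CR a, (w : G) ∈ K → φ w = 1 → w = 1 := fun w hw e => Subtype.ext (hinj' w hw e)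
  have hb3 : ∀ kq : CR a, (kq : G) ∈ K → kq * kq = 1 → φ ((kq * bb) ^ 3) = 1 →
      ((kq : G) * F.ι (M.e 3)) ^ 3 = 1 := by
    intro kq hkq hkqq hp
    obtain ⟨w, hwdef⟩ : ∃ w, w = ((kq : G) * F.ι (M.e 3)) ^ 3 := ⟨_, rfl⟩
    rw [← hwdef]
    have hw : w ∈ Subgroup.zpowers a := by
      have := (hker ((kq * bb) ^ 3)).1 (conj_eq_one_iff.1 ((hφ _).symm.trans hp))
      rw [hwdef]; simpa using this
    refine S.td.zpow_one hw (n := 2) (by norm_num) ?_
    have hkk' : (kq : G) * kq = 1 := congrArg Subtype.val hkqq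
    obtain ⟨j, hj⟩ := Subgroup.mem_zpowers_iff.1 hw
    have hc : F.ι (M.e 3) * w = w * F.ι (M.e 3) := by
      rw [← hj]; exact ((show Commute (F.ι (M.e 3)) a from mem_C.1 hbCR).zpow_right j).eq
    calc w ^ 2 = w * (F.ι (M.e 3) * F.ι (M.e 3)) * w := by rw [hbb, pow_two, mul_one]
      _ = F.ι (M.e 3) * w * F.ι (M.e 3) * w := by rw [← mul_assoc w, ← hc]
      _ = (F.ι (M.e 3) * kq) * (F.ι (M.e 3) * kq) * (F.ι (M.e 3) * kq) * (F.ι (M.e 3) * F.ι (M.e 3)) *
          ((kq : G) * F.ι (M.e 3)) ^ 3 := by rw [hwdef]; simp only [pow_three]; group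
      _ = ((kq : G) * F.ι (M.e 3))⁻¹ ^ 3 * ((kq : G) * F.ι (M.e 3)) ^ 3 := by
          rw [hbb, mul_one, mul_inv_rev, inv_eq_of_mul_eq_one_right hbb, inv_eq_of_mul_eq_one_right hkk',
            pow_three (F.ι (M.e 3) * (kq : G))]
          group
      _ = 1 := by rw [inv_pow, inv_mul_cancel]
  have hbne : φ bb 5 ≠ 5 := by
    intro e
    obtain ⟨k, hk, hkb⟩ := (hfix bb).1 ((hfix' bb).1 e)
    -- the involution would lie in the kernel
    obtain ⟨w, hwdef⟩ : ∃ w, w = k⁻¹ * F.ι (M.e 3) := ⟨_, rfl⟩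
    have hw : w ∈ Subgroup.zpowers a := hwdef ▸ hkb
    have hwk : w * k = k * w := by
      obtain ⟨j, hj⟩ := Subgroup.mem_zpowers_iff.1 hw
      rw [← hj]; exact ((show Commute a k from S.aK k hk).zpow_left j).eq
    have hb : F.ι (M.e 3) = k * w := by rw [hwdef, mul_inv_cancel_left]
    have hww : w * w * (k * k) = 1 := by
      calc w * w * (k * k) = w * (w * k) * k := by group
        _ = w * (k * w) * k := by rw [hwk]
        _ = w * k * (w * k) := by group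
        _ = 1 := by rw [hwk, ← hb, hbb]
    have hw2 : w * w = 1 := S.K_inf (mul_mem hw hw) (by
      rw [mul_eq_one_iff_eq_inv.1 hww]; exact inv_mem (mul_mem hk hk))
    rw [S.td.zpow_one hw (n := 2) (by norm_num) (by rw [pow_two]; exact hw2), mul_one] at hb
    refine S.b_conj_g (S.c.le _ ?_)
    rw [hb]; exact mul_mem (mul_mem hk S.c.g_mem) hk
  have hk2 : kk * kk = 1 := hrel _ (mul_mem hkk.1 hkk.1) (by rw [map_mul, hkk.2, hz0.2.2.2.1])
  have hkg : (kk * gg) ^ 2 = 1 := hrel _ (pow_mem (mul_mem hkk.1 S.c.g_mem) 2)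
    (by rw [map_pow, map_mul, hkk.2, eg, hz0.2.2.2.2.1])
  have hkz : (kk * zz) ^ 3 = 1 := hrel _ (pow_mem (mul_mem hkk.1 S.z_mem) 3)
    (by rw [map_pow, map_mul, hkk.2, ez, hz0.2.2.2.2.2.1])
  have hks : (kk * ss) ^ 5 = 1 := hrel _ (pow_mem (mul_mem hkk.1 S.s_mem) 5)
    (by rw [map_pow, map_mul, hkk.2, es, hz0.2.2.2.2.2.2.1])
  have hss : ss * ss = 1 := Subtype.ext (Invol.mul_self_eq_one S.d.sord)
  rcases Six.b_cases (φ bb) hbne (hsign' _) (by rw [← map_mul, show bb * bb = 1 from Subtype.ext hbb, map_one])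
    (by rw [← ez, ← map_mul, ← map_mul, show bb * zz = zz * bb from Subtype.ext hbz])
    (by rw [← ez, ← es, ← map_mul, ← map_mul, ← map_mul, show bb * ss * bb = zz * ss from Subtype.ext hbs])
    with e | e
  · exact ⟨g, kk, S.c.g_mem, S.d.g3, S.d.gz, S.d.gs, hkk.1, congrArg Subtype.val hk2,
      congrArg Subtype.val hkg, congrArg Subtype.val hkz, congrArg Subtype.val hks,
      hb3 kk hkk.1 hk2 (by rw [map_pow, map_mul, hkk.2, e])⟩
  · let cs : CR a →* CR a := (MulAut.conj ss).toMonoidHom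
    have hsinv : ss⁻¹ = ss := inv_eq_of_mul_eq_one_right hss
    have hcs : ∀ y, cs y = ss * y * ss := fun y => by
      show ss * y * ss⁻¹ = _
      rw [hsinv]
    have hcz : cs zz = zz := by rw [hcs, ← hzs, mul_assoc, hss, mul_one]
    have hcss : cs ss = ss := by rw [hcs, hss, one_mul]
    have hgm : ((cs gg : CR a) : G) ∈ K := by
      rw [hcs]; exact mul_mem (mul_mem S.s_mem S.c.g_mem) S.s_mem
    have hkm : ((cs kk : CR a) : G) ∈ K := by
      rw [hcs]; exact mul_mem (mul_mem S.s_mem hkk.1) S.s_mem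
    have hkk2 : cs kk * cs kk = 1 := by rw [← map_mul, hk2, map_one]
    refine ⟨(cs gg : CR a), (cs kk : CR a), hgm, congrArg Subtype.val (show cs gg ^ 3 = 1 by
        rw [← map_pow, show gg ^ 3 = 1 from Subtype.ext S.d.g3, map_one]),
      congrArg Subtype.val (show cs gg * zz * (cs gg)⁻¹ = zz * ss by
        nth_rw 1 [← hcz]
        rw [← map_inv, ← map_mul, ← map_mul, hgz, map_mul, hcz, hcss]),
      congrArg Subtype.val (show cs gg * ss * (cs gg)⁻¹ = zz by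
        nth_rw 1 [← hcss]
        rw [← map_inv, ← map_mul, ← map_mul, hgs, hcz]),
      hkm, congrArg Subtype.val hkk2,
      congrArg Subtype.val (show (cs kk * cs gg) ^ 2 = 1 by rw [← map_mul, ← map_pow, hkg, map_one]),
      congrArg Subtype.val (show (cs kk * zz) ^ 3 = 1 by
        nth_rw 1 [← hcz]
        rw [← map_mul, ← map_pow, hkz, map_one]),
      congrArg Subtype.val (show (cs kk * ss) ^ 5 = 1 by
        nth_rw 1 [← hcss]
        rw [← map_mul, ← map_pow, hks, map_one]),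
      hb3 _ hkm hkk2 (by rw [map_pow, map_mul, hcs, map_mul, map_mul, es, hkk.2, e])⟩

end Setup

end Cfsg.Agent.HallJanko
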