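import Cfsg.Agent.JankoTwo.Fusion

/-!
An involution of the stabiliser of an axis that is no reflection.
-/

set_option autoImplicit false

namespace Cfsg.Agent.HallJanko.ModelJ2

open Cfsg.Agent.JankoTwo Cfsg.Agent.Compute

/-- The element is an involution different from every reflection. -/
noncomputable def outerOK (w : ℕ × ℕ × ℕ) : Bool :=
  agree3 (fun x => app3 w (app3 w x)) (fun x => x) && !agree3 (app3 w) (fun x => x) &&
    allBelow 315 (fun i => !agree3 (app3 w) (getField 9 (tblAt i)))

/-- The search space. -/
def candList : List (ℕ × ℕ × ℕ) :=
  (List.range 160).flatMap fun j => (List.range 4).flatMap fun k => (List.range 3).map fun l => (j, k, l)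

theorem outer_exists : anyL candList outerOK = true := by decide +kernel

end Cfsg.Agent.HallJanko.ModelJ2
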